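import Mathlib

/-!
Two numbers just below the smallest degree of ²E₆(q) do not divide its order.
-/

set_option autoImplicit false
set_option maxRecDepth 20000
set_option exponentiation.threshold 400

namespace CfsgLib.KnownB.MinDegTwE6

/-- The smallest degree. -/
def tgt (q : ℕ) : ℕ := q * (q ^ 6 - q ^ 3 + 1) * (q ^ 4 + 1)

/-- The order without its power of `q`, times the order of the centre. -/
def pi' (q : ℕ) : ℕ :=
  (q ^ 2 - 1) * (q ^ 5 + 1) * (q ^ 6 - 1) * (q ^ 8 - 1) * (q ^ 9 + 1) * (q ^ 12 - 1)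

theorem tgt_add {q : ℕ} (hq : 2 ≤ q) : tgt q + q ^ 8 + q ^ 4 = q ^ 11 + q ^ 7 + q ^ 5 + q := by
  have h : q ^ 3 ≤ q ^ 6 := Nat.pow_le_pow_right (by omega) (by norm_num)
  obtain ⟨a, ha⟩ : ∃ a, q ^ 6 = q ^ 3 + a := Nat.exists_eq_add_of_le h
  unfold tgt
  rw [ha, Nat.add_sub_cancel_left]
  zify at ha ⊢
  linear_combination -(q : ℤ) * ((q : ℤ) ^ 4 + 1) * ha

theorem small : ∀ q < 64, 2 ≤ q → ¬ (tgt q - 1) ∣ q ^ 36 * pi' q ∧ ¬ (tgt q - 2) ∣ q ^ 36 * pi' q := by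
  decide +kernel

theorem pow_facts {Q : ℤ} (hQ : 64 ≤ Q) :
    0 ≤ Q ^ 8 ∧ 64 * Q ^ 8 ≤ Q ^ 9 ∧ 64 * Q ^ 9 ≤ Q ^ 10 ∧ 64 * Q ^ 10 ≤ Q ^ 11 ∧
      ∀ i ≤ 8, 0 ≤ Q ^ i ∧ Q ^ i ≤ Q ^ 8 := by
  have h : ∀ i : ℕ, 64 * Q ^ i ≤ Q ^ (i + 1) := fun i => by
    rw [pow_succ']; exact mul_le_mul_of_nonneg_right hQ (pow_nonneg (by linarith) _)
  exact ⟨pow_nonneg (by linarith) _, h 8, h 9, h 10, fun i hi =>
    ⟨pow_nonneg (by linarith) _, pow_le_pow_right₀ (by linarith) hi⟩⟩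

theorem large1 {Q d : ℤ} (hQ : 64 ≤ Q)
    (hd : d = Q ^ 11 + Q ^ 7 + Q ^ 5 + Q - Q ^ 8 - Q ^ 4 - 1) :
    ¬ d ∣ (Q ^ 2 - 1) * (Q ^ 5 + 1) * (Q ^ 6 - 1) * (Q ^ 8 - 1) * (Q ^ 9 + 1) * (Q ^ 12 - 1) := by
  rintro ⟨j, hj⟩
  set R : ℤ := (-22) * Q ^ 0 + (48) * Q ^ 1 + (-40) * Q ^ 2 + (12) * Q ^ 3 + (-6) * Q ^ 4 + (17) * Q ^ 5 + (-15) * Q ^ 6 + (31) * Q ^ 7 + (-47) * Q ^ 8 + (29) * Q ^ 9 + (1) * Q ^ 10 with hR
  have hdR : d ∣ R := by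
    refine ⟨j - ((-23) * Q ^ 0 + (25) * Q ^ 1 + (-14) * Q ^ 2 + (-2) * Q ^ 3 + (15) * Q ^ 4 + (-17) * Q ^ 5 + (8) * Q ^ 6 + (5) * Q ^ 7 + (-11) * Q ^ 8 + (10) * Q ^ 9 + (-3) * Q ^ 10 + (-4) * Q ^ 11 + (6) * Q ^ 12 + (-4) * Q ^ 13 + (1) * Q ^ 14 + (1) * Q ^ 15 + (-3) * Q ^ 16 + (3) * Q ^ 17 + (1) * Q ^ 18 + (-3) * Q ^ 19 + (2) * Q ^ 20 + (-1) * Q ^ 22 + (2) * Q ^ 23 + (-2) * Q ^ 24 + (-1) * Q ^ 27 + (1) * Q ^ 28 + (-1) * Q ^ 29 + (1) * Q ^ 31), ?_⟩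
    rw [mul_sub, ← hj, hd, hR]
    ring
  obtain ⟨p0, p8, p9, p10, hp⟩ := pow_facts hQ
  have := hp 0 (by norm_num); have := hp 1 (by norm_num); have := hp 2 (by norm_num)
  have := hp 3 (by norm_num); have := hp 4 (by norm_num); have := hp 5 (by norm_num)
  have := hp 6 (by norm_num); have := hp 7 (by norm_num)
  simp only [pow_zero, pow_one] at *
  have h0 : 0 < R := by rw [hR]; linarith
  have := Int.le_of_dvd h0 hdR
  rw [hd, hR] at this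
  linarith

theorem large2 {Q d : ℤ} (hQ : 64 ≤ Q)
    (hd : d = Q ^ 11 + Q ^ 7 + Q ^ 5 + Q - Q ^ 8 - Q ^ 4 - 2) :
    ¬ d ∣ 2 * ((Q ^ 2 - 1) * (Q ^ 5 + 1) * (Q ^ 6 - 1) * (Q ^ 8 - 1) * (Q ^ 9 + 1) * (Q ^ 12 - 1)) := by
  rintro ⟨j, hj⟩
  set R : ℤ := (-83) * Q ^ 0 + (168) * Q ^ 1 + (-162) * Q ^ 2 + (63) * Q ^ 3 + (3) * Q ^ 4 + (-25) * Q ^ 6 + (85) * Q ^ 7 + (-134) * Q ^ 8 + (112) * Q ^ 9 + (-27) * Q ^ 10 with hR
  have hdR : d ∣ -2 * R := by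
    refine ⟨2 * ((-42) * Q ^ 0 + (63) * Q ^ 1 + (-49) * Q ^ 2 + (7) * Q ^ 3 + (26) * Q ^ 4 + (-40) * Q ^ 5 + (24) * Q ^ 6 + (6) * Q ^ 7 + (-21) * Q ^ 8 + (22) * Q ^ 9 + (-7) * Q ^ 10 + (-5) * Q ^ 11 + (10) * Q ^ 12 + (-9) * Q ^ 13 + (3) * Q ^ 14 + (-5) * Q ^ 16 + (5) * Q ^ 17 + (-3) * Q ^ 19 + (3) * Q ^ 20 + (-1) * Q ^ 22 + (2) * Q ^ 23 + (-2) * Q ^ 24 + (-1) * Q ^ 27 + (1) * Q ^ 28 + (-1) * Q ^ 29 + (1) * Q ^ 31) - j, ?_⟩
    rw [mul_sub, ← hj, hd, hR]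
    ring
  obtain ⟨p0, p8, p9, p10, hp⟩ := pow_facts hQ
  have := hp 0 (by norm_num); have := hp 1 (by norm_num); have := hp 2 (by norm_num)
  have := hp 3 (by norm_num); have := hp 4 (by norm_num); have := hp 5 (by norm_num)
  have := hp 6 (by norm_num); have := hp 7 (by norm_num)
  simp only [pow_zero, pow_one] at *
  have h0 : 0 < -2 * R := by rw [hR]; linarith
  have := Int.le_of_dvd h0 hdR
  rw [hd, hR] at this
  linarith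

/-- The two forbidden degrees. -/
theorem not_dvd {q d k : ℕ} (hpp : IsPrimePow q) (hk : k = 1 ∨ k = 2) (hd : d + k = tgt q) :
    ¬ d ∣ q ^ 36 * pi' q := by
  intro hdvd
  have hq : 2 ≤ q := hpp.two_le
  rcases Nat.lt_or_ge q 64 with h | h64
  · have := small q h hq
    obtain rfl | rfl := hk
    · exact this.1 (by rwa [show tgt q - 1 = d by omega])
    · exact this.2 (by rwa [show tgt q - 2 = d by omega])
  have hT := tgt_add hq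
  have hQ : (64 : ℤ) ≤ (q : ℤ) := by exact_mod_cast h64
  have c : ∀ i, 1 ≤ q ^ i := fun i => Nat.one_le_pow _ _ (by omega)
  have hpi : ((pi' q : ℕ) : ℤ) = ((q : ℤ) ^ 2 - 1) * ((q : ℤ) ^ 5 + 1) * ((q : ℤ) ^ 6 - 1) *
      ((q : ℤ) ^ 8 - 1) * ((q : ℤ) ^ 9 + 1) * ((q : ℤ) ^ 12 - 1) := by
    simp only [pi']
    push_cast [Nat.cast_sub (c 2), Nat.cast_sub (c 6), Nat.cast_sub (c 8), Nat.cast_sub (c 12)]
    ring
  have hqT : q ∣ tgt q := by unfold tgt; exact Dvd.dvd.mul_right (dvd_mul_right q _) _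
  have hpk : ∀ p : ℕ, p.Prime → p ∣ d → p ∣ q → p ∣ k := fun p _ h1 h2 =>
    (Nat.dvd_add_right h1).1 (hd ▸ h2.trans hqT)
  obtain rfl | rfl := hk
  · have hco : Nat.Coprime d q := Nat.coprime_of_dvd' fun p hp h1 h2 => hpk p hp h1 h2
    have h1 := Int.natCast_dvd_natCast.2 ((hco.pow_right 36).dvd_of_dvd_mul_left hdvd)
    rw [hpi] at h1
    refine large1 hQ ?_ h1
    have := congrArg (Nat.cast : ℕ → ℤ) hd
    have h2 := congrArg (Nat.cast : ℕ → ℤ) hT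
    push_cast at this h2
    linarith
  · have h2dvd : d ∣ 2 * pi' q := by
      by_cases hpar : 2 ∣ q
      · obtain ⟨p, n, hp, hn, rfl⟩ := (isPrimePow_nat_iff q).1 hpp
        have hp2 : p = 2 := ((Nat.prime_dvd_prime_iff_eq Nat.prime_two hp).1
          (Nat.prime_two.dvd_of_dvd_pow hpar)).symm
        subst hp2
        have h4 : 4 ∣ 2 ^ n := by
          have : 2 ≤ n := by
            by_contra hlt
            have : n = 1 := by omega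
            subst this
            norm_num at h64
          exact (pow_dvd_pow 2 this : 2 ^ 2 ∣ 2 ^ n)
        obtain ⟨e, rfl⟩ : 2 ∣ d := (Nat.dvd_add_left (dvd_refl 2)).1 (hd ▸ hpar.trans hqT)
        have hco : Nat.Coprime e (2 ^ n) := Nat.Coprime.pow_right n
          ((Nat.coprime_comm).1 ((Nat.prime_two.coprime_iff_not_dvd).2 fun h => by
            obtain ⟨i, rfl⟩ := h
            have h5 : 4 ∣ 2 * (2 * i) + 2 := hd ▸ h4.trans hqT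
            omega))
        have h6 : e ∣ pi' (2 ^ n) :=
          (hco.pow_right 36).dvd_of_dvd_mul_left ((dvd_mul_left e 2).trans hdvd)
        exact Nat.mul_dvd_mul_left 2 h6
      · have hco : Nat.Coprime d q := Nat.coprime_of_dvd' fun p hp h1 h2 => by
          have := (Nat.prime_dvd_prime_iff_eq hp Nat.prime_two).1 (hpk p hp h1 h2)
          exact absurd (this ▸ h2) hpar
        exact dvd_mul_of_dvd_right ((hco.pow_right 36).dvd_of_dvd_mul_left hdvd) 2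
    have h1 := Int.natCast_dvd_natCast.2 h2dvd
    push_cast at h1
    rw [hpi] at h1
    refine large2 hQ ?_ h1
    have := congrArg (Nat.cast : ℕ → ℤ) hd
    have h2 := congrArg (Nat.cast : ℕ → ℤ) hT
    push_cast at this h2
    linarith

/-- The degree is at least the target. -/
theorem tgt_le {q d : ℕ} (hpp : IsPrimePow q) (hdvd : d ∣ q ^ 36 * pi' q)
    (h : (q - 1) * (q ^ 10 + (q ^ 9 + q ^ 8 + q ^ 6 + q ^ 5 + q ^ 4 + q ^ 3 + q + 1) + (q ^ 4 + q ^ 2 + 1)) ≤ d ∨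
      (q - 1) * (2 * q ^ 10) ≤ d) : tgt q ≤ d := by
  have hT := tgt_add hpp.two_le
  obtain ⟨p, rfl⟩ : ∃ p, q = p + 2 := ⟨q - 2, by have := hpp.two_le; omega⟩
  rcases h with h | h
  · have e : (p + 2 - 1) * ((p + 2) ^ 10 + ((p + 2) ^ 9 + (p + 2) ^ 8 + (p + 2) ^ 6 + (p + 2) ^ 5 + (p + 2) ^ 4 +
        (p + 2) ^ 3 + (p + 2) + 1) + ((p + 2) ^ 4 + (p + 2) ^ 2 + 1)) + 2 + (p + 2) ^ 8 + (p + 2) ^ 4 =
        (p + 2) ^ 11 + (p + 2) ^ 7 + (p + 2) ^ 5 + (p + 2) := by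
      rw [show p + 2 - 1 = p + 1 by omega]; ring
    by_contra hlt
    have : d + 1 = tgt (p + 2) ∨ d + 2 = tgt (p + 2) := by omega
    rcases this with e1 | e1
    · exact not_dvd hpp (Or.inl rfl) e1 hdvd
    · exact not_dvd hpp (Or.inr rfl) e1 hdvd
  · rw [show p + 2 - 1 = p + 1 by omega] at h
    have h1 : (p + 2) ^ 11 ≤ (p + 1) * (2 * (p + 2) ^ 10) := by
      rw [pow_succ (p + 2) 10]; nlinarith [Nat.zero_le (p * (p + 2) ^ 10)]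
    have h2 : (p + 2) ^ 7 + (p + 2) ^ 5 + (p + 2) ≤ (p + 2) ^ 8 + (p + 2) ^ 4 := by
      have a : (p + 2) * (p + 2) ^ 7 = (p + 2) ^ 8 := by ring
      have b : (p + 2) ^ 5 + (p + 2) ≤ (p + 2) ^ 7 + (p + 2) ^ 4 := by
        have := Nat.pow_le_pow_right (show 1 ≤ p + 2 by omega) (show 5 ≤ 7 by norm_num)
        have := Nat.le_self_pow (show 4 ≠ 0 by norm_num) (p + 2)
        omega
      have c : 2 * (p + 2) ^ 7 ≤ (p + 2) * (p + 2) ^ 7 := Nat.mul_le_mul_right _ (by omega)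
      omega
    omega

end CfsgLib.KnownB.MinDegTwE6

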