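import Cfsg.Agent.Lib.KnownB.MinDegTwE6.Kill

/-!
The certificates of the weight lines.
-/

set_option autoImplicit false
set_option maxRecDepth 20000
set_option Elab.async false

namespace CfsgLib.KnownB.MinDegTwE6

/-- A weight line of a long root and a cell below it. -/
structure Cert where
  g : ℕ
  ch : List (ℕ × ℕ)
  ks : List (ℕ × ℕ × ℕ)
  P : List ℕ
  cc : List (ℕ × ℕ)
  nxt : List ℕ


/-- The certificate of the root 46. -/
def cert46 : Cert := ⟨46, [(47, 32), (48, 31), (49, 30), (51, 27), (52, 26), (63, 11)], [(53, 14, 67), (54, 14, 68), (55, 14, 69), (65, 29, 68), (66, 29, 69), (69, 37, 65), (70, 39, 69)], [71], [(47, 32), (48, 31), (49, 30), (51, 27), (52, 26), (63, 11)], [71, 46]⟩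

/-- The certificate of the root 47. -/
def cert47 : Cert := ⟨47, [(46, 39), (48, 34), (49, 33), (53, 27), (54, 26), (65, 11)], [(51, 13, 67), (52, 13, 68), (55, 13, 70), (63, 28, 68), (66, 28, 70), (69, 32, 70), (70, 40, 63)], [71, 46], [(48, 34), (49, 33), (53, 27), (54, 26), (65, 11)], [71, 46, 47, 48]⟩

/-- The certificate of the root 51. -/
def cert51 : Cert := ⟨51, [(46, 44), (48, 42), (52, 35), (53, 32), (55, 30), (69, 11)], [(47, 12, 64), (49, 12, 66), (54, 12, 70), (63, 28, 68), (65, 27, 70), (66, 28, 70), (70, 40, 63)], [71, 46, 47, 48], [(52, 35), (53, 32), (55, 30), (69, 11)], [71, 46, 47, 48, 49, 51]⟩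

/-- The certificate of the root 53. -/
def cert53 : Cert := ⟨53, [(47, 44), (48, 43), (51, 39), (54, 35), (55, 33), (70, 11)], [(46, 12, 62), (49, 12, 66), (52, 12, 69), (65, 29, 68), (66, 29, 69), (69, 37, 65), (63, 27, 69)], [71, 46, 47, 48, 49, 51], [(54, 35), (55, 33), (70, 11)], [71, 46, 47, 48, 49, 51, 52, 53]⟩

/-- The certificate of the root 63. -/
def cert63 : Cert := ⟨63, [(46, 60), (49, 57), (52, 56), (65, 32), (66, 31), (69, 27)], [(47, 12, 64), (48, 12, 67), (51, 13, 67), (53, 11, 70), (54, 12, 70), (55, 13, 70), (70, 41, 51)], [71, 46, 47, 48, 49, 51, 52, 53], [(65, 32), (66, 31), (69, 27)], [71, 46, 47, 48, 49, 51, 52, 53, 54, 63]⟩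

/-- The certificate of the root 65. -/
def cert65 : Cert := ⟨65, [(47, 60), (49, 58), (54, 56), (63, 39), (66, 34), (70, 27)], [(46, 12, 62), (48, 12, 67), (52, 12, 69), (53, 14, 67), (55, 14, 69), (69, 38, 53), (51, 11, 69)], [71, 46, 47, 48, 49, 51, 52, 53, 54, 63], [(66, 34), (70, 27)], [71, 46, 47, 48, 49, 51, 52, 53, 54, 55, 63, 65, 66]⟩

/-- The certificate of the root 69. -/
def cert69 : Cert := ⟨69, [(51, 60), (52, 59), (55, 57), (63, 44), (66, 42), (70, 32)], [(46, 13, 61), (48, 13, 64), (49, 13, 65), (53, 15, 64), (54, 15, 65), (65, 36, 53), (47, 11, 65)], [71, 46, 47, 48, 49, 51, 52, 53, 54, 55, 63, 65, 66], [(70, 32)], [71, 46, 47, 48, 49, 51, 52, 53, 54, 55, 63, 65, 66, 69]⟩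

/-- The certificate of the root 70. -/
def cert70 : Cert := ⟨70, [(53, 60), (54, 59), (55, 58), (65, 44), (66, 43), (69, 39)], [(47, 14, 61), (48, 14, 62), (49, 14, 63), (51, 15, 62), (52, 15, 63), (63, 36, 51), (46, 11, 63)], [71, 46, 47, 48, 49, 51, 52, 53, 54, 55, 63, 65, 66, 69], [], [71, 46, 47, 48, 49, 51, 52, 53, 54, 55, 63, 65, 66, 69, 70]⟩

/-- The certificate of the root 39. -/
def cert39 : Cert := ⟨39, [(40, 34), (41, 33)], [(44, 15, 59), (45, 15, 60), (60, 36, 44)], [71, 46, 47, 48, 49, 51, 52, 53, 54, 55, 63, 65, 66, 69, 70], [(40, 34), (41, 33)], [71, 46, 47, 48, 49, 51, 52, 53, 54, 55, 63, 65, 66, 69, 70, 39, 40]⟩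

/-- The certificate of the root 44. -/
def cert44 : Cert := ⟨44, [(40, 42), (45, 35)], [(39, 14, 58), (41, 14, 60), (60, 38, 39)], [71, 46, 47, 48, 49, 51, 52, 53, 54, 55, 63, 65, 66, 69, 70, 39, 40], [(45, 35)], [71, 46, 47, 48, 49, 51, 52, 53, 54, 55, 63, 65, 66, 69, 70, 39, 40, 41, 44, 45]⟩

/-- The certificate of the root 60. -/
def cert60 : Cert := ⟨60, [(41, 57), (45, 56)], [(39, 29, 43), (40, 29, 44), (44, 37, 39)], [71, 46, 47, 48, 49, 51, 52, 53, 54, 55, 63, 65, 66, 69, 70, 39, 40, 41, 44, 45], [], [71, 46, 47, 48, 49, 51, 52, 53, 54, 55, 63, 65, 66, 69, 70, 39, 40, 41, 44, 45, 60]⟩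

/-- The roots of the unipotent radical. -/
def base : List ℕ := [71, 46, 47, 48, 49, 51, 52, 53, 54, 55, 63, 65, 66, 69, 70]

/-- The roots of the second unipotent radical but one. -/
def jumpList : List ℕ := [40, 41, 44, 45, 53, 54, 55, 60, 65, 66, 69, 71, 70]

/-- Further kills on the line of the root 47. -/
def jumpKills : List (ℕ × ℕ × ℕ) := [(40, 15, 58), (41, 36, 40), (44, 15, 59), (45, 15, 60), (60, 36, 44)]

/-- A further kill on the line of the root 46. -/
def lastKills : List (ℕ × ℕ × ℕ) := [(39, 14, 58)]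

/-- The certificate is correct over the fixed roots `B`. -/
def Cert.ok (B : List ℕ) (c : Cert) : Bool :=
  chainOk c.g B c.ch && killsOk (added B c.ch) c.g (added B c.ch) c.ks &&
    (added c.P c.cc).all (fun r => decide (r < 72) && inR (killed (added B c.ch) c.ks) r) &&
    chainOk c.g c.P c.cc && pres c.P c.P c.g c.g &&
    (c.g :: c.P).all (fun r => decide (r < 72) && inR c.nxt r)

end CfsgLib.KnownB.MinDegTwE6
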