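import Cfsg.Agent.Lib.KnownB.MinDegTwE6.Fix

/-!
Coordinates shifted by translators: exact dimensions of weight spaces.
-/

set_option autoImplicit false
set_option maxRecDepth 20000
set_option linter.unusedSectionVars false

namespace CfsgLib.KnownB.MinDegTwE6

open CfsgLib.Chevalley CfsgLib.KnownA.MinDeg
open Module (finrank)

variable {K : Type*} [Field K] [Fintype K] {q : ℕ} {hq : IsPrimePow q} {hK : Nat.card K = q ^ 2}
variable {V : Type*} [AddCommGroup V] [Module ℂ V] [FiniteDimensional ℂ V]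
variable {ρ : Representation ℂ (Gd hq hK) V} {ψ : AddChar (Fx hq hK) ℂ}

local notation "σ" => Twist.E6.fq hq hK

/-- Transitively moved components have the same dimension. -/
theorem step {R : Type*} [Field R] [Fintype R] {φ : AddChar R ℂ} (hφ : φ.IsPrimitive)
    {x : AddChar R (Gd hq hK)} {W : Submodule ℂ V} (hW : Stable ρ x W)
    (h : ∀ a b : R, ∃ g, ∀ v ∈ W ⊓ eig ρ φ x a, ρ g v ∈ W ⊓ eig ρ φ x b) (a : R) :
    finrank ℂ W = Fintype.card R * finrank ℂ ↥(W ⊓ eig ρ φ x a) := by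
  have e : ∀ b, finrank ℂ ↥(W ⊓ eig ρ φ x b) = finrank ℂ ↥(W ⊓ eig ρ φ x a) := fun b => by
    obtain ⟨g, hg⟩ := h b a
    obtain ⟨g', hg'⟩ := h a b
    exact le_antisymm (finrank_le_of_map g hg) (finrank_le_of_map g' hg')
  rw [finrank_eq_sum hφ hW, Finset.sum_congr rfl fun b _ => e b, Finset.sum_const, Finset.card_univ,
    smul_eq_mul]

/-- The coordinate `c` is shifted by the translator `d` through the root `g`. -/
def shifts (g : ℕ) (p : ℕ × ℕ) : Bool :=
  match shape p.2 p.1 with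
  | some (.LL c _) => decide (c = g)
  | some (.SS c _) => decide (c = g)
  | _ => false

/-- One coordinate can be removed. -/
def stepOk (P : List ℕ) (g : ℕ) (p : ℕ × ℕ) : Bool :=
  decide (g < 72 ∧ rh g = g) && pres P P g p.1 && pres P P g p.2 && shifts g p

/-- The whole list of coordinates can be removed. -/
def chainOk (g : ℕ) : List ℕ → List (ℕ × ℕ) → Bool
  | _, [] => true
  | P, p :: L => stepOk P g p && chainOk g (p.1 :: P) L

/-- The coordinates added to the fixed ones. -/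
def added : List ℕ → List (ℕ × ℕ) → List ℕ
  | P, [] => P
  | P, p :: L => added (p.1 :: P) L

/-- The number of parameters over the fixed field. -/
def width : List (ℕ × ℕ) → ℕ
  | [] => 0
  | p :: L => (if isL p.1 then 1 else 2) + width L

theorem wt_cons_long {P : List ℕ} {c g : ℕ} {l : Fx hq hK} (hc : c < 72) (hL : rh c = c) :
    Wt ρ ψ (c :: P) g l = Wt ρ ψ P g l ⊓ eig ρ ψ (lg hq hK c) 0 := by
  ext v
  simp only [Wt, Submodule.mem_inf, mem_eig_zero, mem_fixS, List.forall_mem_cons, lg_apply hc]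
  constructor
  · rintro ⟨⟨h1, h2⟩, h3⟩
    exact ⟨⟨h2, h3⟩, fun t => h1 _ (ok_of_fix (fx_eq hq hK t))⟩
  · rintro ⟨⟨h2, h3⟩, h1⟩
    exact ⟨⟨fun t ht => h1 ⟨t, ht hL⟩, h2⟩, h3⟩

theorem wt_cons_short {P : List ℕ} {c g : ℕ} {l : Fx hq hK} (hc : c < 72) (hL : rh c ≠ c) :
    Wt ρ ψ (c :: P) g l = Wt ρ ψ P g l ⊓ eig ρ (psiK ψ) (sh hq hK c) 0 := by
  ext v
  simp only [Wt, Submodule.mem_inf, mem_eig_zero, mem_fixS, List.forall_mem_cons, sh_apply hc hL]
  constructor
  · rintro ⟨⟨h1, h2⟩, h3⟩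
    exact ⟨⟨h2, h3⟩, fun t => h1 t (ok_short hL t)⟩
  · rintro ⟨⟨h2, h3⟩, h1⟩
    exact ⟨⟨fun t _ => h1 t, h2⟩, h3⟩

/-- A translator shifts a coordinate. -/
theorem shift_act {g c d : ℕ} {l : Fx hq hK} {s : Shape} (e : shape d c = some s) {t u : K}
    (ht : Ok hq hK d t) (hu : Ok hq hK c u) {v : V} (hv : v ∈ eig ρ ψ (lg hq hK g) l) {z : Fx hq hK}
    (hz : s.val hq hK t u = lg hq hK g z) :
    ρ (el hq hK c u) (ρ (el hq hK d t) v) = ρ (el hq hK d t) (ρ (el hq hK c u) (ψ (l * z) • v)) := by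
  rw [act_mul, (shape_spec e).2.2.2 t u ht hu, ← act_mul, hz, hv z, act_mul]

theorem chain_step (hψ : ψ.IsPrimitive) {P : List ℕ} {g : ℕ} {p : ℕ × ℕ} (h : stepOk P g p = true)
    {l : Fx hq hK} (hl : l ≠ 0) :
    finrank ℂ (Wt ρ ψ P g l) = q ^ (if isL p.1 then 1 else 2) * finrank ℂ (Wt ρ ψ (p.1 :: P) g l) ∧
      (rh p.1 = p.1 → ∀ a : Fx hq hK,
        finrank ℂ (Wt ρ ψ P g l) = q * finrank ℂ ↥(Wt ρ ψ P g l ⊓ eig ρ ψ (lg hq hK p.1) a)) := by
  classical
  have := Fintype.ofFinite (Fx hq hK)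
  obtain ⟨c, d⟩ := p
  simp only [stepOk, Bool.and_eq_true, decide_eq_true_eq] at h
  obtain ⟨⟨⟨⟨hg, Lg⟩, hpc⟩, hpd⟩, hsh⟩ := h
  have hc : c < 72 := by
    simp only [pres, Bool.and_eq_true, decide_eq_true_eq] at hpc
    exact hpc.1.1.1
  unfold shifts at hsh
  rcases e : shape d c with _ | s
  · rw [e] at hsh; simp at hsh
  rw [e] at hsh
  obtain ⟨hd, -, hgood, -⟩ := shape_spec (hq := hq) (hK := hK) e
  have mapd : ∀ t, Ok hq hK d t → ∀ v ∈ Wt ρ ψ P g l, ρ (el hq hK d t) v ∈ Wt ρ ψ P g l :=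
    fun t ht v hv => pres_map hpd hv.1 hv ht
  have hlK : (l : K) ≠ 0 := fun h0 => hl (Subtype.ext h0)
  cases s with
  | SL _ _ _ _ => simp at hsh
  | LL c' M =>
    simp only [decide_eq_true_eq] at hsh
    subst hsh
    obtain ⟨Ld, Lc, -, -, hM⟩ := hgood
    have hM0 : ((M : ℤ) : Fx hq hK) ≠ 0 := by rcases hM with rfl | rfl <;> simp
    have main : ∀ a : Fx hq hK, finrank ℂ (Wt ρ ψ P c' l) =
        q * finrank ℂ ↥(Wt ρ ψ P c' l ⊓ eig ρ ψ (lg hq hK c) a) := by
      intro a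
      have := step (φ := ψ) hψ (x := lg hq hK c) (W := Wt ρ ψ P c' l) (fun t v hv => by
          rw [lg_apply hc]; exact pres_map hpc hv.1 hv (ok_of_fix (fx_eq hq hK t))) (fun a b => ?_) a
      · rwa [← Nat.card_eq_fintype_card, card_Fx] at this
      set t : Fx hq hK := (b - a) / (l * (M : Fx hq hK)) with hts
      have ht : Ok hq hK d (t : K) := ok_of_fix (fx_eq hq hK t)
      refine ⟨el hq hK d (t : K), fun v hv => ⟨mapd _ ht v hv.1, fun u => ?_⟩⟩
      have hu : Ok hq hK c (u : K) := ok_of_fix (fx_eq hq hK u)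
      have hval : (Shape.LL c' M).val hq hK (t : K) (u : K) = lg hq hK c' ((M : Fx hq hK) * t * u) := by
        rw [lg_apply hg, Shape.val]
        push_cast
        rfl
      rw [lg_apply hc, shift_act e ht hu hv.1.2 hval, map_smul, ← lg_apply hc, hv.2 u, map_smul, map_smul,
        smul_smul, ← AddChar.map_add_eq_mul]
      congr 2
      rw [hts]
      field_simp
      ring
    exact ⟨by rw [if_pos (by simpa using Lc), pow_one, wt_cons_long hc Lc]; exact main 0, fun _ => main⟩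
  | SS c' M =>
    simp only [decide_eq_true_eq] at hsh
    subst hsh
    obtain ⟨Ld, Lc, -, hM⟩ := hgood
    refine ⟨?_, fun h => absurd h Lc⟩
    have hM0 : ((M : ℤ) : K) ≠ 0 := by rcases hM with rfl | rfl <;> simp
    rw [if_neg (by simpa using Lc), wt_cons_short hc Lc]
    have := step (φ := psiK ψ) (primitive_psiK ψ hψ) (x := sh hq hK c) (W := Wt ρ ψ P c' l) (fun t v hv => by
        rw [sh_apply hc Lc]; exact pres_map hpc hv.1 hv (ok_short Lc t)) (fun a b => ?_) (0 : K)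
    · rwa [← Nat.card_eq_fintype_card, hK] at this
    set t : K := (b - a) / ((l : K) * (M : K)) with hts
    have ht : Ok hq hK d t := ok_short Ld t
    refine ⟨el hq hK d t, fun v hv => ⟨mapd _ ht v hv.1, fun u => ?_⟩⟩
    have hu : Ok hq hK c u := ok_short Lc u
    have hval : (Shape.SS c' M).val hq hK t u = lg hq hK c' (trHom hq hK ((M : K) * t * u)) := by
      rw [lg_apply hg, Shape.val, if_pos Lg]
      rfl
    rw [sh_apply hc Lc, shift_act e ht hu hv.1.2 hval, map_smul, ← sh_apply hc Lc, hv.2 u, map_smul, map_smul,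
      smul_smul, psiK_apply, psiK_apply, ← trHom_smul, ← AddChar.map_add_eq_mul, ← map_add]
    congr 3
    rw [hts]
    field_simp
    ring

/-- Exact dimension along a list of coordinates. -/
theorem chain_dim (hψ : ψ.IsPrimitive) {g : ℕ} {l : Fx hq hK} (hl : l ≠ 0) :
    ∀ {L : List (ℕ × ℕ)} {P : List ℕ}, chainOk g P L = true →
      finrank ℂ (Wt ρ ψ P g l) = q ^ width L * finrank ℂ (Wt ρ ψ (added P L) g l)
  | [], P, _ => by rw [width, added, pow_zero, one_mul]
  | p :: L, P, h => by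
    simp only [chainOk, Bool.and_eq_true] at h
    rw [(chain_step hψ h.1 hl).1, chain_dim hψ hl h.2, ← mul_assoc, ← pow_add]
    rfl

end CfsgLib.KnownB.MinDegTwE6
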