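import Cfsg.Agent.Lib.KnownB.MinDegTwE6.Rel
import Cfsg.Agent.Lib.KnownA.MinDeg.Eigen
import Cfsg.Agent.Lib.KnownA.E6Sub.Field

/-!
Fixed spaces of sets of orbit elements, weight spaces, and elements preserving them.
-/

set_option autoImplicit false
set_option maxRecDepth 20000
set_option linter.unusedSectionVars false

noncomputable section

namespace CfsgLib.KnownB.MinDegTwE6

open CfsgLib.Chevalley CfsgLib.KnownA.MinDeg

variable {K : Type*} [Field K] [Finite K] {q : ℕ} {hq : IsPrimePow q} {hK : Nat.card K = q ^ 2}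
variable {V : Type*} [AddCommGroup V] [Module ℂ V]

local notation "σ" => Twist.E6.fq hq hK

variable (hq hK)

/-- The fixed field. -/
noncomputable def Fx : Subfield K :=
  RingHom.eqLocusField (Twist.E6.fq hq hK).toRingHom (RingHom.id K)

theorem fx_eq (c : Fx hq hK) : σ (c : K) = c := c.2

theorem card_Fx : Nat.card (Fx hq hK) = q := CfsgLib.KnownA.E6Sub.card_fixed hq hK

/-- The trace to the fixed field. -/
noncomputable def trHom : K →+ Fx hq hK where
  toFun x := ⟨x + σ x, show σ (x + σ x) = x + σ x by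
    rw [map_add, CfsgLib.KnownA.E6Sub.h2 hq hK, add_comm]⟩
  map_zero' := Subtype.ext (by simp)
  map_add' x y := Subtype.ext (show (x + y) + σ (x + y) = (x + σ x) + (y + σ y) by rw [map_add]; ring)

theorem trHom_smul (c : Fx hq hK) (x : K) : trHom hq hK ((c : K) * x) = c * trHom hq hK x :=
  Subtype.ext (show (c : K) * x + σ ((c : K) * x) = c * (x + σ x) by
    rw [map_mul, fx_eq]; ring)

theorem exists_tr_ne : ∃ x : K, trHom hq hK x ≠ 0 := by
  by_contra h
  push Not at h
  have h' : ∀ x : K, x + σ x = 0 := fun x => congrArg Subtype.val (h x)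
  have h1 : (1 : K) + 1 = 0 := by simpa using h' 1
  have hid : ∀ x : K, σ x = x := fun x => by
    have e : x + x = 0 := by rw [← two_mul, show (2 : K) = 1 + 1 by norm_num, h1, zero_mul]
    exact add_left_cancel ((h' x).trans e.symm)
  have hc := card_Fx hq hK
  have : Fx hq hK = ⊤ := eq_top_iff.2 fun x _ => hid x
  rw [this] at hc
  have e : Nat.card (⊤ : Subfield K) = Nat.card K := Nat.card_congr Subfield.topEquiv.toEquiv
  rw [e, hK] at hc
  have := Twist.two_le_of_isPrimePow hq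
  nlinarith

/-- The root elements of a long root. -/
noncomputable def lg (r : ℕ) : AddChar (Fx hq hK) (Gd hq hK) :=
  if h : r < 72 then
    { toFun := fun t => el hq hK r (t : K)
      map_zero_eq_one' := by simpa using el_zero h
      map_add_eq_mul' := fun a b => by
        simpa using el_add h (ok_of_fix (fx_eq hq hK a)) (ok_of_fix (fx_eq hq hK b)) }
  else 1

/-- The root elements of a short orbit. -/
noncomputable def sh (r : ℕ) : AddChar K (Gd hq hK) :=
  if h : r < 72 ∧ rh r ≠ r then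
    { toFun := fun t => el hq hK r t
      map_zero_eq_one' := el_zero h.1
      map_add_eq_mul' := fun a b => el_add h.1 (ok_short h.2 a) (ok_short h.2 b) }
  else 1

variable {hq hK}

theorem lg_apply {r : ℕ} (hr : r < 72) (t : Fx hq hK) : lg hq hK r t = el hq hK r (t : K) := by
  rw [lg, dif_pos hr]; rfl

theorem sh_apply {r : ℕ} (hr : r < 72) (h : rh r ≠ r) (t : K) : sh hq hK r t = el hq hK r t := by
  rw [sh, dif_pos ⟨hr, h⟩]; rfl

variable (ρ : Representation ℂ (Gd hq hK) V) (ψ : AddChar (Fx hq hK) ℂ)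

/-- The character of the big field. -/
noncomputable def psiK : AddChar K ℂ := ψ.compAddMonoidHom (trHom hq hK)

theorem psiK_apply (x : K) : psiK ψ x = ψ (trHom hq hK x) := rfl

theorem primitive_psiK (hψ : ψ.IsPrimitive) : (psiK ψ).IsPrimitive := by
  refine AddChar.IsPrimitive.of_ne_one fun e => ?_
  obtain ⟨x, hx⟩ := exists_tr_ne hq hK
  apply hψ (one_ne_zero (α := Fx hq hK))
  refine DFunLike.ext _ _ fun y => ?_
  have := congrFun (congrArg (⇑) e) ((((y / trHom hq hK x : Fx hq hK)) : K) * x)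
  simp only [psiK_apply, AddChar.one_apply] at this
  rw [trHom_smul, div_mul_cancel₀ y hx] at this
  simpa [AddChar.mulShift_apply] using this

/-- The vectors fixed by the orbit elements of a list of roots. -/
def fixS (P : List ℕ) : Submodule ℂ V where
  carrier := {v | ∀ r ∈ P, ∀ t : K, Ok hq hK r t → ρ (el hq hK r t) v = v}
  add_mem' := fun {u v} hu hv r hr t ht => by rw [map_add, hu r hr t ht, hv r hr t ht]
  zero_mem' := fun r _ t _ => by simp
  smul_mem' := fun c v hv r hr t ht => by rw [map_smul, hv r hr t ht]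

theorem mem_fixS {P : List ℕ} {v : V} :
    v ∈ fixS ρ P ↔ ∀ r ∈ P, ∀ t : K, Ok hq hK r t → ρ (el hq hK r t) v = v := Iff.rfl

/-- The weight spaces of a long root among fixed vectors. -/
def Wt (P : List ℕ) (g : ℕ) (l : Fx hq hK) : Submodule ℂ V :=
  fixS ρ P ⊓ eig ρ ψ (lg hq hK g) l

variable {ρ ψ}

theorem act_mul (a b : Gd hq hK) (v : V) : ρ a (ρ b v) = ρ (a * b) v := by
  rw [map_mul, Module.End.mul_apply]

theorem fixS_nil : fixS ρ ([] : List ℕ) = ⊤ := eq_top_iff.2 fun v _ r hr => absurd hr (by simp)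

theorem fixS_mono {P P' : List ℕ} (h : ∀ r ∈ P', r ∈ P) : fixS ρ P ≤ fixS ρ P' :=
  fun _ hv r hr => hv r (h r hr)

/-- A fixed orbit may be named by either root. -/
theorem fixed_rho {c : ℕ} (hc : c < 72) {v : V}
    (h : ∀ t : K, Ok hq hK (rh c) t → ρ (el hq hK (rh c) t) v = v) {t : K} (ht : Ok hq hK c t) :
    ρ (el hq hK c t) v = v := by
  obtain ⟨h1, h2'⟩ := rh_spec hc
  have e := el_rho (hq := hq) (hK := hK) h1 (t := t) (by rwa [h2'])
  rw [h2'] at e
  rw [e]
  refine h _ ?_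
  intro hfix
  rw [h2'] at hfix
  have hσ := ht hfix.symm
  have he : Data.E6.graph.ε c = 1 := (CfsgLib.KnownA.E6Sub.rho_lt c hc).2.2.2.2.1 hfix.symm
  rw [he, Int.cast_one, one_mul, hσ, hσ]

theorem fixS_inR {P : List ℕ} {c : ℕ} (hc : c < 72) (h : inR P c = true) {v : V} (hv : v ∈ fixS ρ P)
    {t : K} (ht : Ok hq hK c t) : ρ (el hq hK c t) v = v := by
  simp only [inR, Bool.or_eq_true, decide_eq_true_eq] at h
  rcases h with h | h
  · exact hv c h t ht
  · exact fixed_rho hc (hv (rh c) h) ht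

theorem fixS_le_inR {P P' : List ℕ} (h : ∀ r ∈ P', r < 72 ∧ inR P r = true) : fixS ρ P ≤ fixS ρ P' :=
  fun _ hv r hr _ ht => fixS_inR (h r hr).1 (h r hr).2 hv ht

theorem ok_mul {c : ℕ} {M : ℤ} {t u : K} (ht : σ t = t) (hu : σ u = u) :
    Ok hq hK c ((M : K) * t * u) := ok_of_fix (by rw [map_mul, map_mul, map_intCast, ht, hu])

theorem val_fix {a b : ℕ} {h : Shape} (hg : h.Good a b) {P : List ℕ} (hin : h.inside P = true) {v : V}
    (hv : v ∈ fixS ρ P) {t u : K} (ht : Ok hq hK a t) (hu : Ok hq hK b u) :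
    ρ (h.val hq hK t u) v = v := by
  cases h with
  | LL c M =>
    obtain ⟨La, Lb, -, hc, -⟩ := hg
    exact fixS_inR hc hin hv (ok_mul (ht La) (hu Lb))
  | SL c M d M' =>
    obtain ⟨-, Lb, Lc, -, hc, hd, -⟩ := hg
    simp only [Shape.inside, Bool.and_eq_true] at hin
    rw [Shape.val, ← act_mul, fixS_inR hd hin.2 hv (ok_of_fix (by
      rw [map_mul, map_mul, map_mul, map_intCast, CfsgLib.KnownA.E6Sub.h2 hq hK, hu Lb]; ring)),
      fixS_inR hc hin.1 hv (ok_short Lc _)]
  | SS c M =>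
    obtain ⟨-, -, hc, -⟩ := hg
    refine fixS_inR hc hin hv fun Lc => ?_
    rw [if_pos Lc, map_add, CfsgLib.KnownA.E6Sub.h2 hq hK, add_comm]

theorem shp_fix {P : List ℕ} {a b : ℕ} (h : shp P a b = true) {v : V} (hv : v ∈ fixS ρ P) {t u : K}
    (ht : Ok hq hK a t) (hu : Ok hq hK b u) :
    ρ (el hq hK b u) (ρ (el hq hK a t) v) = ρ (el hq hK a t) (ρ (el hq hK b u) v) := by
  unfold shp at h
  rcases e : shape a b with _ | s
  · rw [e] at h; simp at h
  rw [e] at h
  obtain ⟨-, -, hg, hrel⟩ := shape_spec (hq := hq) (hK := hK) e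
  rw [act_mul, hrel t u ht hu, ← act_mul, val_fix hg h hv ht hu, act_mul]

/-- Orbit elements commute on vectors fixed by the terms of their commutator. -/
theorem chk_fix {P : List ℕ} {a b : ℕ} (h : chk P a b = true) {v : V} (hv : v ∈ fixS ρ P) {t u : K}
    (ht : Ok hq hK a t) (hu : Ok hq hK b u) :
    ρ (el hq hK b u) (ρ (el hq hK a t) v) = ρ (el hq hK a t) (ρ (el hq hK b u) v) := by
  simp only [chk, Bool.and_eq_true, Bool.or_eq_true, decide_eq_true_eq] at h
  obtain ⟨⟨ha, hb⟩, h⟩ := h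
  have okr : ∀ {r : ℕ} {s : K}, r < 72 → Ok hq hK r s →
      ∃ s', Ok hq hK (rh r) s' ∧ el hq hK r s = el hq hK (rh r) s' := by
    intro r s hr hs
    obtain ⟨h1, h2'⟩ := rh_spec hr
    refine ⟨((Data.E6.graph.ε r : ℤ) : K) * σ s, fun hfix => ?_, ?_⟩
    · rw [h2'] at hfix
      have he : Data.E6.graph.ε r = 1 := (CfsgLib.KnownA.E6Sub.rho_lt r hr).2.2.2.2.1 hfix.symm
      rw [he, Int.cast_one, one_mul, hs hfix.symm, hs hfix.symm]
    · have e := el_rho (hq := hq) (hK := hK) h1 (t := s) (by rwa [h2'])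
      rwa [h2'] at e
  rcases h with (((h | h) | h) | h) | h
  · rw [act_mul, act_mul, el_commute h ht hu]
  · exact shp_fix h hv ht hu
  · exact (shp_fix h hv hu ht).symm
  · obtain ⟨u', hu', e⟩ := okr hb hu
    rw [e]
    exact shp_fix h hv ht hu'
  · obtain ⟨u', hu', e⟩ := okr hb hu
    rw [e]
    exact (shp_fix h hv hu' ht).symm

/-- The element preserves the weight spaces over the list `D`, on vectors fixed by `P`. -/
def pres (P D : List ℕ) (g a : ℕ) : Bool :=
  decide (a < 72 ∧ g < 72 ∧ rh g = g) && D.all (chk P a) && chk P a g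

theorem pres_map {P D : List ℕ} {g a : ℕ} (h : pres P D g a = true) {l : Fx hq hK} {v : V}
    (hP : v ∈ fixS ρ P) (hv : v ∈ Wt ρ ψ D g l) {t : K} (ht : Ok hq hK a t) :
    ρ (el hq hK a t) v ∈ Wt ρ ψ D g l := by
  simp only [pres, Bool.and_eq_true, List.all_eq_true, decide_eq_true_eq] at h
  obtain ⟨⟨⟨-, hg, Lg⟩, hD⟩, hag⟩ := h
  refine ⟨fun r hr u hu => ?_, (mem_eig _ _ _).2 fun s => ?_⟩
  · rw [chk_fix (hD r hr) hP ht hu, hv.1 r hr u hu]
  · have hs : Ok hq hK g (s : K) := ok_of_fix (fx_eq hq hK s)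
    have e := (mem_eig _ _ _).1 hv.2 s
    rw [lg_apply hg] at e ⊢
    rw [chk_fix hag hP ht hs, e, map_smul]

end CfsgLib.KnownB.MinDegTwE6
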