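import Cfsg.Agent.Lib.KnownB.MinDegTwE6.Chain

/-!
Orbit elements acting trivially on a weight line.
-/

set_option autoImplicit false
set_option maxRecDepth 20000
set_option linter.unusedSectionVars false

namespace CfsgLib.KnownB.MinDegTwE6

open CfsgLib.Chevalley CfsgLib.KnownA.MinDeg
open Module (finrank)

variable {K : Type*} [Field K] [Fintype K] {q : ℕ} {hq : IsPrimePow q} {hK : Nat.card K = q ^ 2}
variable {V : Type*} [AddCommGroup V] [Module ℂ V] [FiniteDimensional ℂ V]
variable {ρ : Representation ℂ (Gd hq hK) V} {ψ : AddChar (Fx hq hK) ℂ}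

local notation "σ" => Twist.E6.fq hq hK

/-- The same orbit. -/
def same (a b : ℕ) : Bool := decide (a = b) || decide (rh a = b)

/-- The target is reached by a commutator of two stabilising elements. -/
def killOk (D : List ℕ) (g : ℕ) (P : List ℕ) (k : ℕ × ℕ × ℕ) : Bool :=
  pres P D g k.2.1 && pres P D g k.2.2 && decide (k.1 < 72) &&
    match shape k.2.1 k.2.2 with
    | some (.LL c _) => same c k.1
    | some (.SS c _) => same c k.1
    | some (.SL c _ d _) => (same c k.1 && inR P d) || (decide (d = k.1) && inR P c)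
    | none => false

/-- All the targets are reached. -/
def killsOk (D : List ℕ) (g : ℕ) : List ℕ → List (ℕ × ℕ × ℕ) → Bool
  | _, [] => true
  | P, k :: L => killOk D g P k && killsOk D g (k.1 :: P) L

/-- The targets added to the fixed ones. -/
def killed : List ℕ → List (ℕ × ℕ × ℕ) → List ℕ
  | P, [] => P
  | P, k :: L => killed (k.1 :: P) L

theorem all_of_same {c τ : ℕ} (hc : c < 72) (hτ : τ < 72) (h : same c τ = true) {v : V}
    (hv : ∀ t : K, Ok hq hK c t → ρ (el hq hK c t) v = v) {t : K} (ht : Ok hq hK τ t) :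
    ρ (el hq hK τ t) v = v := by
  simp only [same, Bool.or_eq_true, decide_eq_true_eq] at h
  rcases h with rfl | h
  · exact hv t ht
  · have e : rh τ = c := by rw [← h]; exact (rh_spec hc).2
    exact fixed_rho hτ (fun s hs => by rw [e] at hs ⊢; exact hv s hs) ht

theorem kill_step {D P : List ℕ} {g : ℕ} {l : Fx hq hK} (h1 : finrank ℂ (Wt ρ ψ D g l) = 1)
    (hP : Wt ρ ψ D g l ≤ fixS ρ P) {k : ℕ × ℕ × ℕ} (h : killOk D g P k = true) :
    Wt ρ ψ D g l ≤ fixS ρ (k.1 :: P) := by
  obtain ⟨τ, a, b⟩ := k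
  simp only [killOk, Bool.and_eq_true, decide_eq_true_eq] at h
  obtain ⟨⟨⟨hpa, hpb⟩, hτ⟩, hsh⟩ := h
  rcases e : shape a b with _ | s
  · rw [e] at hsh; simp at hsh
  rw [e] at hsh
  obtain ⟨-, -, hg, hrel⟩ := shape_spec (hq := hq) (hK := hK) e
  have scal : ∀ x t, Ok hq hK x t → pres P D g x = true →
      ∃ z : ℂ, ∀ v ∈ Wt ρ ψ D g l, ρ (el hq hK x t) v = z • v := by
    intro x t ht hx
    obtain ⟨w, hw, hw0⟩ := Submodule.exists_mem_ne_zero_of_ne_bot
      (p := Wt ρ ψ D g l) fun e => by rw [e, finrank_bot] at h1; omega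
    have key : ∀ v ∈ Wt ρ ψ D g l, ∃ z : ℂ, z • w = v := fun v hv => by
      obtain ⟨z, hz⟩ := exists_smul_eq_of_finrank_eq_one h1 (x := ⟨w, hw⟩)
        (fun e => hw0 (congrArg Subtype.val e)) ⟨v, hv⟩
      exact ⟨z, congrArg Subtype.val hz⟩
    obtain ⟨z, hz⟩ := key _ (pres_map hx (hP hw) hw ht)
    refine ⟨z, fun v hv => ?_⟩
    obtain ⟨y, rfl⟩ := key v hv
    rw [map_smul, ← hz, smul_comm]
  have triv : ∀ t u, Ok hq hK a t → Ok hq hK b u → ∀ v ∈ Wt ρ ψ D g l, ρ (s.val hq hK t u) v = v := by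
    intro t u ht hu v hv
    obtain ⟨α, hα⟩ := scal a t ht hpa
    obtain ⟨β, hβ⟩ := scal b u hu hpb
    apply map_injective (ρ := ρ) (el hq hK a t * el hq hK b u)
    rw [act_mul, ← hrel t u ht hu, ← act_mul, ← act_mul, hα v hv, hβ v hv, map_smul, map_smul,
      hα v hv, hβ v hv, smul_comm]
  intro v hv r hr t0 ht0
  rcases List.mem_cons.1 hr with rfl | hr
  swap
  · exact hP hv r hr t0 ht0
  cases s with
  | LL c M =>
    obtain ⟨La, Lb, Lc, hc, hM⟩ := hg
    refine all_of_same hc hτ hsh (fun t ht => ?_) ht0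
    have hMM : (M : K) * (M : K) = 1 := by rcases hM with rfl | rfl <;> simp
    have := triv 1 ((M : K) * t) (ok_of_fix (map_one _))
      (ok_of_fix (by rw [map_mul, map_intCast, ht Lc])) v hv
    rwa [Shape.val, mul_one, ← mul_assoc, hMM, one_mul] at this
  | SS c M =>
    obtain ⟨La, Lb, hc, hM⟩ := hg
    refine all_of_same hc hτ hsh (fun t ht => ?_) ht0
    have hMM : (M : K) * (M : K) = 1 := by rcases hM with rfl | rfl <;> simp
    by_cases Lc : rh c = c
    · obtain ⟨x0, hx0⟩ := exists_tr_ne hq hK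
      have hts := ht Lc
      set T : Fx hq hK := ⟨t, hts⟩
      have := triv (((T / trHom hq hK x0 : Fx hq hK) : K) * ((M : K) * x0)) 1 (ok_short La _)
        (ok_short Lb _) v hv
      have e1 : (M : K) * (((T / trHom hq hK x0 : Fx hq hK) : K) * ((M : K) * x0)) * 1 =
          ((T / trHom hq hK x0 : Fx hq hK) : K) * x0 := by
        linear_combination (((T / trHom hq hK x0 : Fx hq hK) : K) * x0) * hMM
      have e2 := congrArg Subtype.val (trHom_smul hq hK (T / trHom hq hK x0) x0)
      rw [div_mul_cancel₀ T hx0] at e2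
      rw [Shape.val, if_pos Lc, e1] at this
      exact (show ((T / trHom hq hK x0 : Fx hq hK) : K) * x0 + σ (((T / trHom hq hK x0 : Fx hq hK) : K) * x0)
        = t from e2) ▸ this
    · have := triv ((M : K) * t) 1 (ok_short La _) (ok_short Lb _) v hv
      rwa [Shape.val, if_neg Lc, mul_one, ← mul_assoc, hMM, one_mul] at this
  | SL c M d M' =>
    obtain ⟨La, Lb, Lc, Ld, hc, hd, hM, hM'⟩ := hg
    simp only [Bool.or_eq_true, Bool.and_eq_true, decide_eq_true_eq] at hsh
    have hMM : (M : K) * (M : K) = 1 := by rcases hM with rfl | rfl <;> simp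
    have hMM' : (M' : K) * (M' : K) = 1 := by rcases hM' with rfl | rfl <;> simp
    rcases hsh with ⟨h, hd'⟩ | ⟨rfl, hc'⟩
    · refine all_of_same hc hτ h (fun t ht => ?_) ht0
      have := triv ((M : K) * t) 1 (ok_short La _) (ok_of_fix (map_one _)) v hv
      rw [Shape.val, ← act_mul, fixS_inR hd hd' (hP hv) (ok_of_fix (by
        simp only [map_mul, map_intCast, map_one, CfsgLib.KnownA.E6Sub.h2 hq hK]
        ring))] at this
      rwa [mul_one, ← mul_assoc, hMM, one_mul] at this
    · have hσ := ht0 Ld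
      have := triv 1 ((M' : K) * t0) (ok_of_fix (map_one _))
        (ok_of_fix (by rw [map_mul, map_intCast, hσ])) v hv
      rw [Shape.val, map_one, mul_one, mul_one, mul_one, ← mul_assoc (M' : K), hMM', one_mul, ← act_mul] at this
      have hcv := fixS_inR hc hc' (hP hv) (ok_short Lc ((M : K) * ((M' : K) * t0)))
      exact map_injective (ρ := ρ) _ (this.trans hcv.symm)

/-- All the targets of a list act trivially on the line. -/
theorem kills {D : List ℕ} {g : ℕ} {l : Fx hq hK} (h1 : finrank ℂ (Wt ρ ψ D g l) = 1) :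
    ∀ {L : List (ℕ × ℕ × ℕ)} {P : List ℕ}, Wt ρ ψ D g l ≤ fixS ρ P → killsOk D g P L = true →
      Wt ρ ψ D g l ≤ fixS ρ (killed P L)
  | [], _, hP, _ => hP
  | k :: L, P, hP, h => by
    simp only [killsOk, Bool.and_eq_true] at h
    exact kills (P := k.1 :: P) h1 (kill_step h1 hP h.1) h.2

/-- The line of a chain is fixed by everything killed. -/
theorem line_le {D : List ℕ} {g : ℕ} {l : Fx hq hK} {L : List (ℕ × ℕ × ℕ)}
    (h1 : finrank ℂ (Wt ρ ψ D g l) = 1) (h : killsOk D g D L = true) {P' : List ℕ}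
    (hP' : (P'.all fun r => decide (r < 72) && inR (killed D L) r) = true) :
    Wt ρ ψ D g l ≤ Wt ρ ψ P' g l := by
  simp only [List.all_eq_true, Bool.and_eq_true, decide_eq_true_eq] at hP'
  exact le_inf ((kills h1 inf_le_left h).trans (fixS_le_inR hP')) inf_le_right

end CfsgLib.KnownB.MinDegTwE6
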