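import Cfsg.Agent.Lib.KnownB.MinDegTwE6.Fix

/-!
Weight spaces moved by reflections and torus elements.
-/

set_option autoImplicit false
set_option maxRecDepth 20000
set_option linter.unusedSectionVars false
set_option synthInstance.maxHeartbeats 200000

noncomputable section

namespace CfsgLib.KnownB.MinDegTwE6

open CfsgLib.Chevalley CfsgLib.Chevalley.Tbl CfsgLib.KnownA.MinDeg CfsgLib.KnownA.E6Sub
open Module (finrank)

variable {K : Type*} [Field K] [Fintype K] {q : ℕ} {hq : IsPrimePow q} {hK : Nat.card K = q ^ 2}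
variable {V : Type*} [AddCommGroup V] [Module ℂ V] [FiniteDimensional ℂ V]
variable {ρ : Representation ℂ (Gd hq hK) V} {ψ : AddChar (Fx hq hK) ℂ}

local notation "TT" => Data.E6.tbl
local notation "xx" => Data.E6.tbl.xU K
local notation "GR" => Data.E6.graph
local notation "σ" => Twist.E6.fq hq hK

variable (hq hK) in
open Classical in
/-- The reflection of an orbit in the group. -/
def njG (j : ℕ) : Gd hq hK :=
  if hj : j < 4 then ⟨nj j, (nj_fix hq hK hj).1⟩ else 1

variable (hq hK) in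
open Classical in
/-- A torus element in the group. -/
def tor (d : ℕ) (c : Kˣ) : Gd hq hK :=
  if h : Data.E6.tbl.hU K d (c : K) ∈ (AbSetup.S (Twist.E6.setup hq hK)).fix then ⟨_, h⟩ else 1

theorem sgn_sq {j r : ℕ} (hj : j < 4) (hr : r < 72) : ((sgn j r : ℤ) : K) * (sgn j r : K) = 1 := by
  rcases (act_rho j hj r hr).2.2.2.2 with h | h <;> rw [h] <;> simp

theorem act_fix {j r : ℕ} (hj : j < 4) (hr : r < 72) : rh (act j r) = act j r ↔ rh r = r := by
  obtain ⟨hs, h1, -, h4, -⟩ := act_rho j hj r hr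
  obtain ⟨-, h1', -⟩ := act_rho j hj (act j r) hs
  constructor
  · intro h
    have e : act j (rh r) = act j r := h1.trans h
    have := congrArg (act j) e
    rwa [(act_rho j hj _ (rh_spec hr).1).2.2.2.1, h4] at this
  · intro h
    have e : act j (rh r) = rh (act j r) := h1
    rwa [h, eq_comm] at e

theorem ok_act {j r : ℕ} (hj : j < 4) (hr : r < 72) {t : K} (ht : Ok hq hK r t) :
    Ok hq hK (act j r) ((sgn j r : K) * t) := fun h => by
  rw [map_mul, map_intCast, ht ((act_fix hj hr).1 h)]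

theorem nj_el {j r : ℕ} (hj : j < 4) (hr : r < 72) {t : K} (ht : Ok hq hK r t) :
    el hq hK (act j r) ((sgn j r : K) * t) * njG hq hK j = njG hq hK j * el hq hK r t := by
  refine Subtype.ext ?_
  have hs := (act_rho j hj r hr).1
  rw [njG, dif_pos hj, Subgroup.coe_mul, Subgroup.coe_mul, el_val hr ht, el_val hs (ok_act hj hr ht)]
  show raw hq hK (act j r) ((sgn j r : K) * t) * nj j = nj j * raw hq hK r t
  unfold raw
  by_cases h : rh r = r
  · rw [if_pos h, if_pos ((act_fix hj hr).2 h), nj_x hj hr]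
  · rw [if_neg h, if_neg (fun e => h ((act_fix hj hr).1 e)), ← nj_E hq hK hj hr, inv_mul_cancel_right]

/-- A reflection maps fixed spaces to fixed spaces. -/
theorem nj_fixS {j : ℕ} (hj : j < 4) {P P' : List ℕ}
    (h : (P'.all fun r => decide (r < 72) && inR P (act j r)) = true) {v : V} (hv : v ∈ fixS ρ P) :
    ρ (njG hq hK j) v ∈ fixS ρ P' := by
  intro r hr t ht
  simp only [List.all_eq_true, Bool.and_eq_true, decide_eq_true_eq] at h
  obtain ⟨hr72, hin⟩ := h r hr
  obtain ⟨hs, -, -, h4, -⟩ := act_rho j hj r hr72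
  set t' : K := (sgn j (act j r) : K) * t with ht'
  have hok : Ok hq hK (act j r) t' := fun e => by
    rw [ht', map_mul, map_intCast, ht ((act_fix hj hr72).1 e)]
  have e := nj_el hj hs hok
  rw [h4, ht', ← mul_assoc, sgn_sq hj hs, one_mul] at e
  rw [act_mul, e, ← act_mul, fixS_inR hs hin hv hok]

theorem nj_eig {j r : ℕ} (hj : j < 4) (hr : r < 72) (hL : rh r = r) {l : Fx hq hK} {v : V}
    (hv : v ∈ eig ρ ψ (lg hq hK r) l) :
    ρ (njG hq hK j) v ∈ eig ρ ψ (lg hq hK (act j r)) (l / (sgn j r : Fx hq hK)) := by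
  refine map_eig (by rcases (act_rho j hj r hr).2.2.2.2 with h | h <;> rw [h] <;> simp) (fun t => ?_) hv
  rw [lg_apply hr, lg_apply (act_rho j hj r hr).1, ← nj_el hj hr (ok_of_fix (fx_eq hq hK t))]
  push_cast
  rfl

theorem nj_Wt {j g : ℕ} (hj : j < 4) (hg : g < 72) (hL : rh g = g) {P P' : List ℕ}
    (h : (P'.all fun r => decide (r < 72) && inR P (act j r)) = true) {l : Fx hq hK} {v : V}
    (hv : v ∈ Wt ρ ψ P g l) :
    ρ (njG hq hK j) v ∈ Wt ρ ψ P' (act j g) (l / (sgn j g : Fx hq hK)) :=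
  ⟨nj_fixS hj h hv.1, nj_eig hj hg hL hv.2⟩

/-- The pairing of a long root is constant on orbits. -/
theorem pair_rho : ∀ d < 72, (GR).ρ d = d → ∀ r < 72,
    Data.E6.tbl.pair d ((GR).ρ r) = Data.E6.tbl.pair d r := by
  decide +kernel

theorem tor_el {d r : ℕ} (hd : d < 72) (hdL : rh d = d) (hr : r < 72) {c : Kˣ} (hc : σ (c : K) = c)
    {t : K} (ht : Ok hq hK r t) :
    el hq hK r (((c ^ Data.E6.tbl.pair d r : Kˣ) : K) * t) * tor hq hK d c =
      tor hq hK d c * el hq hK r t := by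
  have hneg : ∀ d < 72, (GR).ρ d = d → (GR).ρ ((TT).neg d) = (TT).neg d ∧ (TT).neg d < 72 := by
    decide +kernel
  have hnU : ∀ a : K, σ a = a → (TT).nU K d a ∈ (AbSetup.S (Twist.E6.setup hq hK)).fix := fun a ha =>
    mul_mem (mul_mem (long_fix hq hK hd hdL ha)
      (long_fix hq hK (hneg d hd hdL).2 (hneg d hd hdL).1 (by rw [map_neg, map_inv₀, ha])))
      (long_fix hq hK hd hdL ha)
  have hm : (TT).hU K d (c : K) ∈ (AbSetup.S (Twist.E6.setup hq hK)).fix :=
    mul_mem (hnU _ hc) (hnU (-1) (by rw [map_neg, map_one]))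
  have hχ : σ (((c ^ Data.E6.tbl.pair d r : Kˣ) : K)) = ((c ^ Data.E6.tbl.pair d r : Kˣ) : K) := by
    rw [Units.val_zpow_eq_zpow_val, map_zpow₀, hc]
  have hok : Ok hq hK r (((c ^ Data.E6.tbl.pair d r : Kˣ) : K) * t) := fun e => by
    rw [map_mul, hχ, ht e]
  refine Subtype.ext ?_
  rw [tor, dif_pos hm, Subgroup.coe_mul, Subgroup.coe_mul, el_val hr ht, el_val hr hok]
  show raw hq hK r _ * (TT).hU K d (c : K) = (TT).hU K d (c : K) * raw hq hK r t
  rw [hU_eq Data.E6.valid (hn ▸ hd) c]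
  have hx : ∀ s < 72, ∀ u : K, (TT).dU ((TT).hCh d c) * xx s u =
      xx s (((c ^ Data.E6.tbl.pair d s : Kˣ) : K) * u) * (TT).dU ((TT).hCh d c) := fun s hs u =>
    dU_conj_X Data.E6.valid (isChar_hCh Data.E6.valid d c) (hn ▸ hs) u
  unfold raw
  split
  · rw [hx r hr]
  · rw [E, E, ← mul_assoc ((TT).dU ((TT).hCh d c)), hx r hr, mul_assoc (xx r _) ((TT).dU ((TT).hCh d c)), hx _ (rho_lt r hr).1,
      pair_rho d hd hdL r hr, map_mul, hχ, mul_left_comm, ← mul_assoc, mul_assoc (xx r _)]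

theorem tor_fixS {d : ℕ} (hd : d < 72) (hdL : rh d = d) {c : Kˣ} (hc : σ (c : K) = c) {P : List ℕ}
    (hP : (P.all fun r => decide (r < 72)) = true) {v : V} (hv : v ∈ fixS ρ P) :
    ρ (tor hq hK d c) v ∈ fixS ρ P := by
  intro r hr t ht
  simp only [List.all_eq_true, decide_eq_true_eq] at hP
  set χ : Kˣ := c ^ Data.E6.tbl.pair d r with hχ'
  have hok : Ok hq hK r (((χ⁻¹ : Kˣ) : K) * t) := fun e => by
    rw [map_mul, ht e, hχ', ← _root_.zpow_neg, Units.val_zpow_eq_zpow_val, map_zpow₀, hc]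
  have e := tor_el hd hdL (hP r hr) hc hok
  rw [← mul_assoc, ← Units.val_mul, mul_inv_cancel, Units.val_one, one_mul] at e
  rw [act_mul, e, ← act_mul, hv r hr _ hok]

/-- A long root pairing to a unit with another. -/
def torOk (d g : ℕ) : Bool :=
  decide (d < 72 ∧ g < 72 ∧ rh d = d ∧ rh g = g ∧
    (Data.E6.tbl.pair d g = 1 ∨ Data.E6.tbl.pair d g = -1))

theorem finrank_le_torus {d g : ℕ} (h : torOk d g = true) {P : List ℕ}
    (hP : (P.all fun r => decide (r < 72)) = true) {l l' : Fx hq hK} (hl : l ≠ 0) (hl' : l' ≠ 0) :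
    finrank ℂ (Wt ρ ψ P g l) ≤ finrank ℂ (Wt ρ ψ P g l') := by
  simp only [torOk, decide_eq_true_eq] at h
  obtain ⟨hd, hg, hdL, hgL, hp⟩ := h
  have hw : l / l' ≠ 0 := div_ne_zero hl hl'
  have hwK : ((l / l' : Fx hq hK) : K) ≠ 0 := fun e => hw (Subtype.ext e)
  obtain ⟨c, hc, he⟩ : ∃ c : Kˣ, σ (c : K) = c ∧
      ((c ^ Data.E6.tbl.pair d g : Kˣ) : K) = ((l / l' : Fx hq hK) : K) := by
    rcases hp with hp | hp
    · exact ⟨Units.mk0 _ hwK, fx_eq hq hK (l / l'), by rw [hp, zpow_one]; rfl⟩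
    · exact ⟨(Units.mk0 _ hwK)⁻¹, by rw [Units.val_inv_eq_inv_val, map_inv₀]; congr 1; exact fx_eq hq hK (l / l'),
        by rw [hp, _root_.zpow_neg_one, inv_inv]; rfl⟩
  refine finrank_le_of_map (tor hq hK d c) fun v hv => ⟨tor_fixS hd hdL hc hP hv.1, ?_⟩
  have := map_eig (y := lg hq hK g) (g := tor hq hK d c) (w := l / l') hw (fun t => ?_) hv.2
  · rwa [div_div_cancel₀ hl] at this
  · have e := tor_el hd hdL hg hc (ok_of_fix (r := g) (fx_eq hq hK t))
    rw [he] at e
    rw [lg_apply hg, lg_apply hg, ← e]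
    rfl

theorem finrank_torus {d g : ℕ} (h : torOk d g = true) {P : List ℕ}
    (hP : (P.all fun r => decide (r < 72)) = true) {l : Fx hq hK} (hl : l ≠ 0) :
    finrank ℂ (Wt ρ ψ P g l) = finrank ℂ (Wt ρ ψ P g 1) :=
  le_antisymm (finrank_le_torus h hP hl one_ne_zero) (finrank_le_torus h hP one_ne_zero hl)

/-- A reflection keeps the list and its weights. -/
def moveOk (P : List ℕ) (j g d : ℕ) : Bool :=
  decide (j < 4 ∧ g < 72 ∧ rh g = g) && (P.all fun r => decide (r < 72) && inR P (act j r)) &&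
    torOk d g && torOk (act j d) (act j g)

theorem finrank_nj {P : List ℕ} {j g d : ℕ} (h : moveOk P j g d = true) :
    finrank ℂ (Wt ρ ψ P (act j g) 1) = finrank ℂ (Wt ρ ψ P g 1) := by
  simp only [moveOk, Bool.and_eq_true, decide_eq_true_eq] at h
  obtain ⟨⟨⟨⟨hj, hg, hL⟩, hP⟩, ht⟩, ht'⟩ := h
  have hP' : (P.all fun r => decide (r < 72)) = true := by
    simp only [List.all_eq_true, Bool.and_eq_true, decide_eq_true_eq] at hP ⊢
    exact fun r hr => (hP r hr).1
  obtain ⟨hs, -, -, h4, -⟩ := act_rho j hj g hg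
  have hne : ∀ r < 72, (sgn j r : Fx hq hK) ≠ 0 := fun r hr => by
    rcases (act_rho j hj r hr).2.2.2.2 with h | h <;> rw [h] <;> simp
  refine le_antisymm ?_ ?_
  · rw [← finrank_torus ht hP' (l := 1 / (sgn j (act j g) : Fx hq hK)) (by simp [hne _ hs])]
    refine finrank_le_of_map (ρ := ρ) (njG hq hK j) fun v hv => ?_
    have := nj_Wt hj hs ((act_fix hj hg).2 hL) hP hv
    rwa [h4] at this
  · rw [← finrank_torus ht' hP' (l := 1 / (sgn j g : Fx hq hK)) (by simp [hne _ hg])]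
    exact finrank_le_of_map (ρ := ρ) (njG hq hK j) fun v hv => nj_Wt hj hg hL hP hv

/-- Consecutive moves along a word. -/
def wordOk (P : List ℕ) : List ℕ → ℕ → ℕ → Bool
  | [], _, _ => true
  | j :: w, g, d => moveOk P j g d && wordOk P w (act j g) (act j d)

theorem finrank_word {P : List ℕ} : ∀ {w : List ℕ} {g d : ℕ}, wordOk P w g d = true →
    finrank ℂ (Wt ρ ψ P (w.foldl (fun r j => act j r) g) 1) = finrank ℂ (Wt ρ ψ P g 1)
  | [], _, _, _ => rfl
  | j :: w, g, d, h => by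
    simp only [wordOk, Bool.and_eq_true] at h
    rw [List.foldl_cons, finrank_word h.2, finrank_nj h.1]

end CfsgLib.KnownB.MinDegTwE6
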