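import Cfsg.Agent.Lib.KnownB.MinDegTwE6.Cases
import Cfsg.Agent.Lib.KnownB.MinDegTwE6.Move

/-!
The lower bound on the degrees of ²E₆(q) coming from the weight lines.
-/

set_option autoImplicit false
set_option maxRecDepth 20000
set_option linter.unusedSectionVars false
set_option synthInstance.maxHeartbeats 200000
set_option maxHeartbeats 1000000

namespace CfsgLib.KnownB.MinDegTwE6

open CfsgLib.Chevalley CfsgLib.KnownA.MinDeg
open CfsgLib.KnownA.E6Sub (act sgn)
open Module (finrank)

variable {K : Type*} [Field K] [Fintype K] {q : ℕ} {hq : IsPrimePow q} {hK : Nat.card K = q ^ 2}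
variable {V : Type*} [AddCommGroup V] [Module ℂ V] [FiniteDimensional ℂ V]
variable {ρ : Representation ℂ (Gd hq hK) V} {ψ : AddChar (Fx hq hK) ℂ}

local notation "σ" => Twist.E6.fq hq hK

theorem simple_Gd : IsSimpleGroup (Gd hq hK) := by
  haveI := (Twist.E6.simple hq hK).1
  let e := MulEquiv.subgroupCongr (Twist.E6.G_eq hq hK)
  haveI : Nontrivial (Gd hq hK) := e.toEquiv.symm.nontrivial
  exact IsSimpleGroup.isSimpleGroup_of_surjective e.toMonoidHom e.surjective

theorem wt_nil {g : ℕ} {l : Fx hq hK} : Wt ρ ψ [] g l = eig ρ ψ (lg hq hK g) l := by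
  rw [Wt, fixS_nil, top_inf_eq]

theorem fixS_cons {P : List ℕ} {c : ℕ} (hc : c < 72) (hL : rh c = c) :
    fixS ρ (c :: P) = fixS ρ P ⊓ eig ρ ψ (lg hq hK c) 0 := by
  ext v
  simp only [Submodule.mem_inf, mem_eig_zero, mem_fixS, List.forall_mem_cons, lg_apply hc]
  exact ⟨fun h => ⟨h.2, fun t => h.1 _ (ok_of_fix (fx_eq hq hK t))⟩,
    fun h => ⟨fun t ht => h.2 ⟨t, ht hL⟩, h.1⟩⟩

theorem card_erase [Fintype (Fx hq hK)] [DecidableEq (Fx hq hK)] :
    ((Finset.univ : Finset (Fx hq hK)).erase 0).card = q - 1 := by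
  rw [Finset.card_erase_of_mem (Finset.mem_univ _), Finset.card_univ, ← Nat.card_eq_fintype_card, card_Fx]

/-- A nontrivial part of a root on a fixed space. -/
theorem cell_le (hψ : ψ.IsPrimitive) {P nxt : List ℕ} {g : ℕ} (hst : pres P P g g = true)
    (hnxt : ((g :: P).all fun r => decide (r < 72) && inR nxt r) = true) {b : ℕ}
    (hb : ∀ l : Fx hq hK, l ≠ 0 → b ≤ finrank ℂ (Wt ρ ψ P g l)) :
    finrank ℂ (fixS ρ nxt) + (q - 1) * b ≤ finrank ℂ (fixS ρ P) := by
  classical
  have := Fintype.ofFinite (Fx hq hK)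
  have hs := hst
  simp only [pres, Bool.and_eq_true, decide_eq_true_eq, List.all_eq_true] at hs
  obtain ⟨⟨⟨-, hg, hL⟩, hD⟩, -⟩ := hs
  have hstab : Stable ρ (lg hq hK g) (fixS ρ P) := fun t v hv r hr u hu => by
    rw [lg_apply hg, chk_fix (hD r hr) hv (ok_of_fix (fx_eq hq hK t)) hu, hv r hr u hu]
  rw [finrank_eq_sum hψ hstab, ← Finset.add_sum_erase Finset.univ _ (Finset.mem_univ (0 : Fx hq hK))]
  refine add_le_add ?_ ?_
  · refine Submodule.finrank_mono ?_
    rw [← fixS_cons hg hL]
    simp only [List.all_eq_true, Bool.and_eq_true, decide_eq_true_eq] at hnxt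
    exact fixS_le_inR hnxt
  · have := Finset.card_nsmul_le_sum ((Finset.univ : Finset (Fx hq hK)).erase 0)
      (fun l => finrank ℂ ↥(fixS ρ P ⊓ eig ρ ψ (lg hq hK g) l)) b fun l hl => hb l (Finset.ne_of_mem_erase hl)
    rwa [card_erase, smul_eq_mul] at this

/-- A certified root gives a line and a cell. -/
theorem cert_cell (hψ : ψ.IsPrimitive) (hq2 : 2 ≤ q) {B : List ℕ} {c : Cert} (h : c.ok B = true)
    (hB : ∀ l : Fx hq hK, l ≠ 0 → finrank ℂ (Wt ρ ψ B c.g l) = q ^ width c.ch) :
    finrank ℂ (fixS ρ c.nxt) + (q - 1) * q ^ width c.cc ≤ finrank ℂ (fixS ρ c.P) := by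
  simp only [Cert.ok, Bool.and_eq_true] at h
  obtain ⟨⟨⟨⟨⟨h1, h2⟩, h3⟩, h4⟩, h5⟩, h6⟩ := h
  refine cell_le hψ h5 h6 fun l hl => ?_
  have e := hB l hl
  rw [chain_dim hψ hl h1] at e
  have hone : finrank ℂ (Wt ρ ψ (added B c.ch) c.g l) = 1 :=
    Nat.eq_of_mul_eq_mul_left (pow_pos (by omega) _) (e.trans (mul_one _).symm)
  have := Submodule.finrank_mono (R := ℂ) (line_le hone h2 h3)
  rw [hone] at this
  rw [chain_dim hψ hl h4]
  exact Nat.le_mul_of_pos_right _ (by omega)

/-- The coordinates of the Heisenberg part. -/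
def heis : List (ℕ × ℕ) := [(46, 70), (47, 69), (48, 68), (49, 67), (51, 65), (52, 64), (53, 63)]

theorem top_stable : Stable ρ (lg hq hK 71) (⊤ : Submodule ℂ V) := fun _ _ _ => trivial

theorem torus71 {l : Fx hq hK} (hl : l ≠ 0) :
    finrank ℂ (Wt ρ ψ [] 71 l) = finrank ℂ (Wt ρ ψ [] 71 1) :=
  finrank_torus (show torOk 1 71 = true by decide +kernel) (by rfl) hl

/-- The highest root acts nontrivially. -/
theorem theta_pos [ρ.IsIrreducible] (hk : 2 ≤ finrank ℂ V) (hψ : ψ.IsPrimitive) :
    finrank ℂ (Wt ρ ψ [] 71 1) ≠ 0 := by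
  classical
  have := Fintype.ofFinite (Fx hq hK)
  intro h0
  have hn : ∀ n : Fx hq hK, n ≠ 0 → eig ρ ψ (lg hq hK 71) n = ⊥ := fun n hn => by
    rw [← wt_nil]
    exact Submodule.finrank_eq_zero.1 ((torus71 hn).trans h0)
  have htop : (⊤ : Submodule ℂ V) ≤ eig ρ ψ (lg hq hK 71) 0 :=
    le_eig_zero hψ top_stable fun n h => by rw [hn n h, inf_bot_eq]
  have := simple_Gd (hq := hq) (hK := hK)
  have h71 : rh 71 = 71 := by decide +kernel
  have hne : lg hq hK 71 1 ≠ 1 := fun e => by
    have e' : Data.E6.tbl.xU K 71 (1 : K) = 1 := by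
      have := congrArg Subtype.val e
      rw [lg_apply (by norm_num), el_long (by norm_num) h71 (by simp)] at this
      simpa using this
    rw [← KnownA.E6Sub.x_zero (K := K) (show 71 < 72 by norm_num)] at e'
    exact one_ne_zero (Tbl.xU_inj Data.E6.valid (by rw [KnownA.E6Sub.hn]; norm_num) e')
  rcases (MonoidHom.normal_ker ρ).eq_bot_or_eq_top with h | h
  · refine hne (Subgroup.mem_bot.1 (h ▸ MonoidHom.mem_ker.2 (LinearMap.ext fun v => ?_)))
    exact mem_eig_zero _ _ _ |>.1 (htop (Submodule.mem_top (x := v))) 1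
  · have : (⊤ : Submodule ℂ V) = ⊥ := eq_bot_of_fixed (ρ := ρ) hk fun g v _ => by
      rw [MonoidHom.mem_ker.1 (h ▸ Subgroup.mem_top g), Module.End.one_apply]
    rw [← finrank_top ℂ V, this, finrank_bot] at hk
    omega

theorem total_le (hψ : ψ.IsPrimitive) :
    finrank ℂ (fixS ρ [71]) + (q - 1) * finrank ℂ (Wt ρ ψ [] 71 1) ≤ finrank ℂ V := by
  have := cell_le (ρ := ρ) (P := []) (nxt := [71]) (g := 71) hψ (by decide +kernel) (by decide +kernel)
    (b := finrank ℂ (Wt ρ ψ [] 71 1)) fun l hl => (torus71 hl).ge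
  rwa [fixS_nil, finrank_top] at this

/-- Where the weight spaces of long roots of the radical come from. -/
def topOk (c : Cert) (t : ℕ) (w : List ℕ) : Bool :=
  stepOk [] 71 (c.g, t) && wordOk [] w 71 1 && decide (w.foldl (fun r j => act j r) 71 = c.g) &&
    isL c.g && decide (width c.ch = 9) && pres [] [] c.g 71 && torOk (w.foldl (fun r j => act j r) 1) c.g

theorem top_dim (hψ : ψ.IsPrimitive) (hq2 : 2 ≤ q) (hz : finrank ℂ (Wt ρ ψ [] 71 1) = q ^ 10)
    {c : Cert} {t : ℕ} {w : List ℕ} (h : topOk c t w = true) (l : Fx hq hK) (hl : l ≠ 0) :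
    finrank ℂ (Wt ρ ψ [71] c.g l) = q ^ width c.ch := by
  classical
  have := Fintype.ofFinite (Fx hq hK)
  simp only [topOk, Bool.and_eq_true, decide_eq_true_eq] at h
  obtain ⟨⟨⟨⟨⟨⟨hs, hw⟩, hwg⟩, hL⟩, h9⟩, hp⟩, ht⟩ := h
  have h71 : rh 71 = 71 := by decide +kernel
  have hzl : finrank ℂ (Wt ρ ψ [] c.g l) = q ^ 10 := by
    rw [finrank_torus ht (by rfl) hl, ← hwg, finrank_word hw, hz]
  have hstab : Stable ρ (lg hq hK 71) (Wt ρ ψ [] c.g l) := fun u v hv => by
    rw [lg_apply (by norm_num)]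
    exact pres_map hp hv.1 hv (ok_of_fix (fx_eq hq hK u))
  have hn : ∀ n : Fx hq hK, n ≠ 0 →
      finrank ℂ ↥(Wt ρ ψ [] c.g l ⊓ eig ρ ψ (lg hq hK 71) n) = q ^ 9 := by
    intro n hn
    have e := (chain_step (ρ := ρ) hψ hs hn).2 hL l
    rw [torus71 hn, hz, wt_nil, inf_comm, ← wt_nil, pow_succ' q 9] at e
    exact (Nat.eq_of_mul_eq_mul_left (by omega) e).symm
  have e := finrank_eq_sum hψ hstab
  rw [hzl, ← Finset.add_sum_erase Finset.univ _ (Finset.mem_univ (0 : Fx hq hK)),
    Finset.sum_congr rfl fun n hn' => hn n (Finset.ne_of_mem_erase hn'), Finset.sum_const, card_erase,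
    smul_eq_mul, ← wt_cons_long (by norm_num) h71] at e
  rw [h9]
  obtain ⟨p, rfl⟩ : ∃ p, q = p + 1 := ⟨q - 1, by omega⟩
  rw [pow_succ' (p + 1) 9, Nat.add_sub_cancel, add_one_mul] at e
  omega

/-- The Levi factor acts nontrivially on the vectors fixed by the radical. -/
theorem levi_pos (hψ : ψ.IsPrimitive) (hq2 : 2 ≤ q)
    (h46 : ∀ l : Fx hq hK, l ≠ 0 → finrank ℂ (Wt ρ ψ [71] cert46.g l) = q ^ width cert46.ch)
    (h47 : ∀ l : Fx hq hK, l ≠ 0 → finrank ℂ (Wt ρ ψ [71] cert47.g l) = q ^ width cert47.ch) :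
    finrank ℂ (Wt ρ ψ base 39 1) ≠ 0 := by
  classical
  have := Fintype.ofFinite (Fx hq hK)
  have line1 : ∀ (c : Cert), chainOk c.g [71] c.ch = true →
      (∀ l : Fx hq hK, l ≠ 0 → finrank ℂ (Wt ρ ψ [71] c.g l) = q ^ width c.ch) →
      ∀ l : Fx hq hK, l ≠ 0 → finrank ℂ (Wt ρ ψ (added [71] c.ch) c.g l) = 1 := fun c hc hd l hl =>
    Nat.eq_of_mul_eq_mul_left (pow_pos (by omega) (width c.ch))
      ((chain_dim hψ hl hc).symm.trans ((hd l hl).trans (mul_one _).symm))
  have hl47 := line1 cert47 (by decide +kernel) h47 1 one_ne_zero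
  obtain ⟨v, hv, hv0⟩ := Submodule.exists_mem_ne_zero_of_ne_bot
    (p := Wt ρ ψ (added [71] cert47.ch) 47 1) fun e => by
      have := hl47
      rw [show cert47.g = 47 from rfl, e, finrank_bot] at this
      omega
  have hvJ : v ∈ Wt ρ ψ jumpList 47 1 :=
    line_le hl47 (show killsOk (added [71] cert47.ch) 47 (added [71] cert47.ch) (cert47.ks ++ jumpKills) = true
      by decide +kernel) (by decide +kernel) hv
  have hvP : v ∈ fixS ρ (killed (added [71] cert47.ch) (cert47.ks ++ jumpKills)) :=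
    kills hl47 inf_le_left (show killsOk (added [71] cert47.ch) 47 (added [71] cert47.ch)
      (cert47.ks ++ jumpKills) = true by decide +kernel) hv
  have h39 : rh 39 = 39 := by decide +kernel
  -- averaging over the root 39
  set v1 : V := ∑ t : Fx hq hK, ρ (el hq hK 39 (t : K)) v with hv1
  have hpres : pres (killed (added [71] cert47.ch) (cert47.ks ++ jumpKills)) jumpList 47 39 = true := by
    decide +kernel
  have hv1J : v1 ∈ Wt ρ ψ jumpList 47 1 :=
    Submodule.sum_mem _ fun t _ => pres_map hpres hvP hvJ (ok_of_fix (fx_eq hq hK t))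
  have hv1W : v1 ∈ Wt ρ ψ (39 :: jumpList) 47 1 := by
    rw [wt_cons_long (by norm_num) h39]
    refine ⟨hv1J, (mem_eig_zero _ _ _).2 fun s => ?_⟩
    rw [hv1, map_sum]
    refine Fintype.sum_equiv (Equiv.addLeft s) _ _ fun t => ?_
    rw [act_mul, ← lg_apply (hr := by norm_num), ← AddChar.map_add_eq_mul, lg_apply (by norm_num)]
    rfl
  have hv10 : v1 ≠ 0 := by
    obtain ⟨M, hM, hMne⟩ : ∃ M : ℤ, shape 39 46 = some (.LL 47 M) ∧ (M = 1 ∨ M = -1) := by
      rcases e : shape 39 46 with _ | s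
      · exact absurd e (by decide +kernel)
      · obtain ⟨-, -, hg, -⟩ := shape_spec (hq := hq) (hK := hK) e
        have key : ∀ s, shape 39 46 = some s → ∃ M, s = .LL 47 M := by
          intro s hs
          have : (match shape 39 46 with | some (.LL c _) => decide (c = 47) | _ => false) = true := by
            decide +kernel
          rw [hs] at this
          cases s <;> simp at this
          subst this
          exact ⟨_, rfl⟩
        obtain ⟨M, rfl⟩ := key s e
        exact ⟨M, rfl, hg.2.2.2.2⟩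
    have hM0 : (M : Fx hq hK) ≠ 0 := by rcases hMne with rfl | rfl <;> simp
    have h46L : rh 46 = 46 := by decide +kernel
    have hw : ∀ t : Fx hq hK, ρ (el hq hK 39 (t : K)) v ∈ eig ρ ψ (lg hq hK 46) ((M : Fx hq hK) * t) := by
      intro t u
      have hval : (Shape.LL 47 M).val hq hK (t : K) (u : K) = lg hq hK 47 ((M : Fx hq hK) * t * u) := by
        rw [lg_apply (by norm_num), Shape.val]
        push_cast
        rfl
      rw [lg_apply (by norm_num), shift_act hM (ok_of_fix (fx_eq hq hK t)) (ok_of_fix (fx_eq hq hK u))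
        hv.2 hval, one_mul, map_smul, map_smul,
        fixS_inR (by norm_num) (by decide +kernel) hvP (ok_of_fix (fx_eq hq hK u))]
    intro h
    have := congrArg (proj ρ ψ (lg hq hK 46) 0) h
    rw [hv1, map_sum, map_zero, Finset.sum_congr rfl fun t _ => proj_of_mem ρ _ hψ (hw t),
      Finset.sum_eq_single (0 : Fx hq hK) (fun t _ ht => by rw [if_neg (by
        rw [eq_comm]; exact mul_ne_zero hM0 ht)]) (fun h => absurd (Finset.mem_univ _) h),
      if_pos (by rw [mul_zero]), ZeroMemClass.coe_zero, el_zero (by norm_num), map_one,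
      Module.End.one_apply] at this
    exact hv0 this
  -- the eigenvalues of the root 25
  have h25 : rh 25 = 25 := by decide +kernel
  have hst : Stable ρ (lg hq hK 25) (Wt ρ ψ (39 :: jumpList) 47 1) := fun u w hw => by
    rw [lg_apply (by norm_num)]
    exact pres_map (show pres (39 :: jumpList) (39 :: jumpList) 47 25 = true by decide +kernel) hw.1 hw
      (ok_of_fix (fx_eq hq hK u))
  obtain ⟨n, hn⟩ := exists_eig hψ hst fun e => hv10 (by simpa [e] using hv1W)
  have hsg : ∀ r < 72, (sgn 0 r : Fx hq hK) ≠ 0 := fun r hr => by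
    rcases (KnownA.E6Sub.act_rho 0 (by norm_num) r hr).2.2.2.2 with h | h <;> rw [h] <;> simp
  have h47L : rh 47 = 47 := by decide +kernel
  have hact : act 0 47 = 39 ∧ act 0 25 = 46 := by decide +kernel
  by_cases hn0 : n = 0
  · subst hn0
    intro h0
    obtain ⟨w, hw, hw0⟩ := Submodule.exists_mem_ne_zero_of_ne_bot hn
    rw [← wt_cons_long (by norm_num) h25] at hw
    have := nj_Wt (j := 0) (P' := base) (by norm_num) (by norm_num) h47L (by decide +kernel) hw
    rw [hact.1] at this
    have hb : Wt ρ ψ base 39 (1 / (sgn 0 47 : Fx hq hK)) = ⊥ := Submodule.finrank_eq_zero.1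
      ((finrank_torus (show torOk 1 39 = true by decide +kernel) (by decide +kernel)
        (div_ne_zero one_ne_zero (hsg 47 (by norm_num)))).trans h0)
    rw [hb, Submodule.mem_bot] at this
    exact hw0 (map_injective _ (this.trans (map_zero _).symm))
  exfalso
  obtain ⟨w, ⟨⟨hwJ, hw47⟩, hw25⟩, hw0⟩ := Submodule.exists_mem_ne_zero_of_ne_bot hn
  set w' := ρ (njG hq hK 0) w
  have h46' : w' ∈ Wt ρ ψ (added [71] cert46.ch) 46 (n / (sgn 0 25 : Fx hq hK)) := by
    have := nj_Wt (j := 0) (g := 25) (P' := added [71] cert46.ch) (by norm_num) (by norm_num) h25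
      (by decide +kernel) (show w ∈ Wt ρ ψ (39 :: jumpList) 25 n from ⟨hwJ, hw25⟩)
    rwa [hact.2] at this
  have h39' : w' ∈ eig ρ ψ (lg hq hK 39) (1 / (sgn 0 47 : Fx hq hK)) := by
    have := nj_eig (j := 0) (by norm_num) (by norm_num) h47L hw47
    rwa [hact.1] at this
  have hl46 := line1 cert46 (by decide +kernel) h46 (n / (sgn 0 25 : Fx hq hK))
    (div_ne_zero hn0 (hsg 25 (by norm_num)))
  have hfix : ∀ t : K, Ok hq hK 39 t → ρ (el hq hK 39 t) w' = w' := fun t ht =>
    fixS_inR (by norm_num) (by decide +kernel)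
      (kills hl46 inf_le_left (show killsOk (added [71] cert46.ch) 46 (added [71] cert46.ch)
        (cert46.ks ++ lastKills) = true by decide +kernel) h46') ht
  have hw'0 : w' ≠ 0 := fun e => hw0 (map_injective _ (e.trans (map_zero _).symm))
  set l' : Fx hq hK := 1 / (sgn 0 47 : Fx hq hK) with hl'
  refine hψ (a := l') (div_ne_zero one_ne_zero (hsg 47 (by norm_num))) ?_
  refine DFunLike.ext _ _ fun t => ?_
  have e := h39' t
  rw [lg_apply (by norm_num), hfix _ (ok_of_fix (fx_eq hq hK t))] at e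
  have : (ψ (l' * t) - 1) • w' = 0 := by rw [sub_smul, one_smul, ← e, sub_self]
  rw [AddChar.mulShift_apply, AddChar.one_apply]
  exact sub_eq_zero.1 ((smul_eq_zero.1 this).resolve_right hw'0)

/-- The vectors fixed by the radical. -/
theorem base_le (hψ : ψ.IsPrimitive) (hq2 : 2 ≤ q) (hpos : finrank ℂ (Wt ρ ψ base 39 1) ≠ 0) :
    (q - 1) * (q ^ 4 + q ^ 2 + 1) ≤ finrank ℂ (fixS ρ base) := by
  have hy : finrank ℂ (Wt ρ ψ base 39 1) = q ^ 4 * finrank ℂ (Wt ρ ψ (added base cert39.ch) 39 1) :=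
    chain_dim hψ one_ne_zero (show chainOk 39 base cert39.ch = true by decide +kernel)
  set m := finrank ℂ (Wt ρ ψ (added base cert39.ch) 39 1)
  have hbase : (base.all fun r => decide (r < 72)) = true := by decide +kernel
  rcases Nat.lt_or_ge m 2 with hm | hm
  · have hm1 : m = 1 := by
      rcases Nat.eq_zero_or_pos m with h | h
      · rw [h, mul_zero] at hy; exact absurd hy hpos
      · omega
    rw [hm1, mul_one] at hy
    have e44 : finrank ℂ (Wt ρ ψ base 44 1) = q ^ 4 := by
      rw [← hy]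
      exact finrank_word (w := [3]) (g := 39) (d := 1) (by decide +kernel)
    have e60 : finrank ℂ (Wt ρ ψ base 60 1) = q ^ 4 := by
      rw [← hy]
      exact finrank_word (w := [3, 2]) (g := 39) (d := 1) (by decide +kernel)
    have hw : width cert39.ch = 4 ∧ width cert44.ch = 4 ∧ width cert60.ch = 4 := by decide +kernel
    have c1 := cert_cell (ρ := ρ) hψ hq2 (c := cert39) (show cert39.ok base = true by decide +kernel)
      fun l hl => by rw [show cert39.g = 39 from rfl, hw.1,
        finrank_torus (show torOk 1 39 = true by decide +kernel) hbase hl, hy]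
    have c2 := cert_cell (ρ := ρ) hψ hq2 (c := cert44) (show cert44.ok base = true by decide +kernel)
      fun l hl => by rw [show cert44.g = 44 from rfl, hw.2.1,
        finrank_torus (show torOk (act 3 1) 44 = true by decide +kernel) hbase hl, e44]
    have c3 := cert_cell (ρ := ρ) hψ hq2 (c := cert60) (show cert60.ok base = true by decide +kernel)
      fun l hl => by rw [show cert60.g = 60 from rfl, hw.2.2,
        finrank_torus (show torOk (act 2 (act 3 1)) 60 = true by decide +kernel) hbase hl, e60]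
    rw [show cert39.P = base by decide +kernel, show width cert39.cc = 4 by decide +kernel] at c1
    rw [show cert44.P = cert39.nxt by decide +kernel, show width cert44.cc = 2 by decide +kernel] at c2
    rw [show cert60.P = cert44.nxt by decide +kernel, show width cert60.cc = 0 by decide +kernel,
      pow_zero] at c3
    rw [mul_add, mul_add]
    omega
  · have h39 : rh 39 = 39 := by decide +kernel
    have := cell_le (ρ := ρ) hψ (P := base) (g := 39) (nxt := 39 :: base) (by decide +kernel)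
      (by decide +kernel) (b := finrank ℂ (Wt ρ ψ base 39 1)) fun l hl =>
        (finrank_torus (show torOk 1 39 = true by decide +kernel) hbase hl).ge
    refine le_trans (Nat.mul_le_mul_left _ ?_) (le_trans (Nat.le_add_left _ _) this)
    rw [hy]
    have h1 : q ^ 2 * 4 ≤ q ^ 4 := by nlinarith [Nat.mul_le_mul hq2 hq2]
    have h2 : q ^ 4 * 2 ≤ q ^ 4 * m := Nat.mul_le_mul_left _ hm
    have h3 : 1 ≤ q ^ 2 := Nat.one_le_pow _ _ (by omega)
    omega

/-- The bound from the weight lines. -/
theorem degree_bound [ρ.IsIrreducible] (hk : 2 ≤ finrank ℂ V) :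
    (q - 1) * (q ^ 10 + (q ^ 9 + q ^ 8 + q ^ 6 + q ^ 5 + q ^ 4 + q ^ 3 + q + 1) + (q ^ 4 + q ^ 2 + 1)) ≤
      finrank ℂ V ∨ (q - 1) * (2 * q ^ 10) ≤ finrank ℂ V := by
  obtain ⟨ψ, hψ⟩ : ∃ ψ : AddChar (Fx hq hK) ℂ, ψ.IsPrimitive := by
    obtain ⟨ψ, hψ⟩ := AddChar.exists_apply_ne_zero.2 (one_ne_zero (α := Fx hq hK))
    exact ⟨ψ, AddChar.IsPrimitive.of_ne_one fun e => hψ (by simp [e])⟩
  have hq2 := Twist.two_le_of_isPrimePow hq
  have hz0 := theta_pos (ρ := ρ) hk hψ
  have htot := total_le (ρ := ρ) hψ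
  have hz := chain_dim (ρ := ρ) hψ (one_ne_zero (α := Fx hq hK))
    (show chainOk 71 [] heis = true by decide +kernel)
  rw [show width heis = 10 by decide +kernel] at hz
  set m := finrank ℂ (Wt ρ ψ (added [] heis) 71 1)
  rcases Nat.lt_or_ge m 2 with hm | hm
  swap
  · right
    have : (q - 1) * (q ^ 10 * 2) ≤ (q - 1) * (q ^ 10 * m) :=
      Nat.mul_le_mul_left _ (Nat.mul_le_mul_left _ hm)
    rw [mul_comm 2 (q ^ 10)]
    rw [hz] at htot
    omega
  left
  have hm1 : m = 1 := by
    rcases Nat.eq_zero_or_pos m with h | h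
    · rw [h, mul_zero] at hz; exact absurd hz hz0
    · omega
  rw [hm1, mul_one] at hz
  have T46 := top_dim hψ hq2 hz (c := cert46) (t := 70) (w := [0, 1, 3, 1, 2, 3, 1]) (by decide +kernel)
  have T47 := top_dim hψ hq2 hz (c := cert47) (t := 69) (w := [0, 1, 3, 1, 2, 3]) (by decide +kernel)
  have T51 := top_dim hψ hq2 hz (c := cert51) (t := 65) (w := [0, 1, 3, 1, 2]) (by decide +kernel)
  have T53 := top_dim hψ hq2 hz (c := cert53) (t := 63) (w := [0, 1, 3, 2]) (by decide +kernel)
  have T63 := top_dim hψ hq2 hz (c := cert63) (t := 53) (w := [0, 1, 3, 1]) (by decide +kernel)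
  have T65 := top_dim hψ hq2 hz (c := cert65) (t := 51) (w := [0, 1, 3]) (by decide +kernel)
  have T69 := top_dim hψ hq2 hz (c := cert69) (t := 47) (w := [0, 1]) (by decide +kernel)
  have T70 := top_dim hψ hq2 hz (c := cert70) (t := 46) (w := [0]) (by decide +kernel)
  have c1 := cert_cell hψ hq2 (show cert46.ok [71] = true by decide +kernel) T46
  have c2 := cert_cell hψ hq2 (show cert47.ok [71] = true by decide +kernel) T47
  have c3 := cert_cell hψ hq2 (show cert51.ok [71] = true by decide +kernel) T51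
  have c4 := cert_cell hψ hq2 (show cert53.ok [71] = true by decide +kernel) T53
  have c5 := cert_cell hψ hq2 (show cert63.ok [71] = true by decide +kernel) T63
  have c6 := cert_cell hψ hq2 (show cert65.ok [71] = true by decide +kernel) T65
  have c7 := cert_cell hψ hq2 (show cert69.ok [71] = true by decide +kernel) T69
  have c8 := cert_cell hψ hq2 (show cert70.ok [71] = true by decide +kernel) T70
  rw [show cert46.P = [71] by decide +kernel, show width cert46.cc = 9 by decide +kernel] at c1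
  rw [show cert47.P = cert46.nxt by decide +kernel, show width cert47.cc = 8 by decide +kernel] at c2
  rw [show cert51.P = cert47.nxt by decide +kernel, show width cert51.cc = 6 by decide +kernel] at c3
  rw [show cert53.P = cert51.nxt by decide +kernel, show width cert53.cc = 5 by decide +kernel] at c4
  rw [show cert63.P = cert53.nxt by decide +kernel, show width cert63.cc = 4 by decide +kernel] at c5
  rw [show cert65.P = cert63.nxt by decide +kernel, show width cert65.cc = 3 by decide +kernel] at c6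
  rw [show cert69.P = cert65.nxt by decide +kernel, show width cert69.cc = 1 by decide +kernel,
    pow_one] at c7
  rw [show cert70.P = cert69.nxt by decide +kernel, show width cert70.cc = 0 by decide +kernel,
    pow_zero, show cert70.nxt = base by decide +kernel] at c8
  have hb := base_le hψ hq2 (levi_pos (ρ := ρ) hψ hq2 T46 T47)
  rw [hz] at htot
  simp only [mul_add] at hb ⊢
  omega

end CfsgLib.KnownB.MinDegTwE6
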