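import Cfsg.Agent.Lib.KnownA.E6Sub.Basic

/-!
Root elements of ²E₆(q) inside the group, and their commutator relations in a form decided on root
indices.
-/

set_option autoImplicit false
set_option maxRecDepth 20000
set_option Elab.async false
set_option linter.unusedSectionVars false

namespace CfsgLib.KnownB.MinDegTwE6

open CfsgLib.Chevalley CfsgLib.Chevalley.Tbl CfsgLib.KnownA.E6Sub

/-! ### The combinatorics -/

/-- The graph map on roots. -/
abbrev rh (r : ℕ) : ℕ := Data.E6.graph.ρ r

/-- Fixed by the graph map. -/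
abbrev isL (r : ℕ) : Bool := decide (rh r = r)

/-- The sum root with the signed coefficient, if the commutator is a single term. -/
def top (r s : ℕ) : Option (ℕ × ℤ) :=
  if r < 72 ∧ s < 72 ∧ s ≠ Data.E6.tbl.neg r then
    match Data.E6.tbl.commT r s with
    | [(c, N, i, j)] => if i = 1 ∧ j = 1 ∧ c < 72 ∧ (N = 1 ∨ N = -1) then some (c, -N) else none
    | _ => none
  else none

/-- The two roots commute. -/
def com1 (r s : ℕ) : Bool :=
  decide (r < 72 ∧ s < 72 ∧ s ≠ Data.E6.tbl.neg r ∧ Data.E6.tbl.commT r s = [])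

/-- The two orbits commute. -/
def com (a b : ℕ) : Bool :=
  decide (a < 72 ∧ b < 72) && com1 a b && com1 a (rh b) && com1 (rh a) b && com1 (rh a) (rh b)

/-- The shapes of a nontrivial commutator of two orbits. -/
inductive Shape
  | LL (c : ℕ) (M : ℤ)
  | SL (c : ℕ) (M : ℤ) (d : ℕ) (M' : ℤ)
  | SS (c : ℕ) (M : ℤ)
  deriving DecidableEq

/-- The shape of the commutator of two orbits. -/
def shape (a b : ℕ) : Option Shape :=
  match top a b with
  | none => none
  | some (c, M) =>
    if isL a then
      (if isL b ∧ isL c then some (.LL c M) else none)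
    else if isL b then
      match top (rh a) b, top (rh a) c with
      | some (c', M'), some (d, N) =>
        if !isL c ∧ isL d ∧ c' = rh c ∧ M' * Data.E6.graph.ε a = Data.E6.graph.ε c * M then
          some (.SL c M d (N * Data.E6.graph.ε a * M))
        else none
      | _, _ => none
    else
      match top (rh a) (rh b) with
      | some (c', M') =>
        if c' = rh c ∧ M' * Data.E6.graph.ε a * Data.E6.graph.ε b = Data.E6.graph.ε c * M ∧
            com1 a (rh b) ∧ com1 (rh a) b ∧ com1 (rh a) c ∧ com1 (rh b) c then some (.SS c M)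
        else none
      | none => none

/-- Membership up to the graph map. -/
def inR (P : List ℕ) (c : ℕ) : Bool := decide (c ∈ P) || decide (rh c ∈ P)

/-- The terms of a shape lie in the list. -/
def Shape.inside (P : List ℕ) : Shape → Bool
  | .LL c _ => inR P c
  | .SL c _ d _ => inR P c && inR P d
  | .SS c _ => inR P c

/-- The commutator has a shape with terms in the list. -/
def shp (P : List ℕ) (a b : ℕ) : Bool :=
  match shape a b with
  | some h => h.inside P
  | none => false

/-- The two orbits commute modulo the list. -/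
def chk (P : List ℕ) (a b : ℕ) : Bool :=
  decide (a < 72 ∧ b < 72) &&
    (com a b || shp P a b || shp P b a || shp P a (rh b) || shp P (rh b) a)

theorem top_spec {r s c : ℕ} {M : ℤ} (h : top r s = some (c, M)) :
    r < 72 ∧ s < 72 ∧ s ≠ Data.E6.tbl.neg r ∧ c < 72 ∧ (M = 1 ∨ M = -1) ∧
      Data.E6.tbl.commT r s = [(c, -M, 1, 1)] := by
  unfold top at h
  split at h
  · rename_i h0
    split at h
    · rename_i c' N i j he
      split at h
      · rename_i h1
        obtain ⟨rfl, rfl, h1, h2⟩ := h1
        simp only [Option.some.injEq, Prod.mk.injEq] at h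
        obtain ⟨rfl, rfl⟩ := h
        refine ⟨h0.1, h0.2.1, h0.2.2, h1, ?_, by rw [he, neg_neg]⟩
        rcases h2 with rfl | rfl <;> simp
      · simp at h
    · simp at h
  · simp at h

theorem com1_spec {r s : ℕ} (h : com1 r s = true) :
    r < 72 ∧ s < 72 ∧ s ≠ Data.E6.tbl.neg r ∧ Data.E6.tbl.commT r s = [] := of_decide_eq_true h

/-! ### The group -/

variable {K : Type*} [Field K] [Finite K] {q : ℕ} (hq : IsPrimePow q) (hK : Nat.card K = q ^ 2)

local notation "TT" => Data.E6.tbl
local notation "xx" => Data.E6.tbl.xU K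
local notation "GR" => Data.E6.graph
local notation "σ" => Twist.E6.fq hq hK
local notation "SS'" => AbSetup.S (Twist.E6.setup hq hK)

/-- The twisted group. -/
abbrev Gd : Type _ := ↥(AbSetup.S (Twist.E6.setup hq hK)).fix

/-- Admissible parameters. -/
def Ok (r : ℕ) (t : K) : Prop := rh r = r → Twist.E6.fq hq hK t = t

/-- The orbit element as a matrix. -/
noncomputable def raw (r : ℕ) (t : K) : GL (Data.E6.tbl).I K :=
  if rh r = r then Data.E6.tbl.xU K r t else E hq hK r t

open Classical in
/-- The orbit element in the group. -/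
noncomputable def el (r : ℕ) (t : K) : Gd hq hK :=
  if h : raw hq hK r t ∈ (AbSetup.S (Twist.E6.setup hq hK)).fix then ⟨_, h⟩ else 1

variable {hq hK}

theorem ok_of_fix {r : ℕ} {t : K} (h : σ t = t) : Ok hq hK r t := fun _ => h

theorem ok_short {r : ℕ} (h : rh r ≠ r) (t : K) : Ok hq hK r t := fun e => absurd e h

theorem raw_mem {r : ℕ} (hr : r < 72) {t : K} (ht : Ok hq hK r t) :
    raw hq hK r t ∈ (SS').fix := by
  unfold raw
  split
  · rename_i h; exact long_fix hq hK hr h (ht h)
  · rename_i h; exact E_fix hq hK hr h t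

theorem el_val {r : ℕ} (hr : r < 72) {t : K} (ht : Ok hq hK r t) :
    ((el hq hK r t : Gd hq hK) : GL (TT).I K) = raw hq hK r t := by
  rw [el, dif_pos (raw_mem hr ht)]

theorem el_long {r : ℕ} (hr : r < 72) (h : rh r = r) {t : K} (ht : σ t = t) :
    ((el hq hK r t : Gd hq hK) : GL (TT).I K) = xx r t := by
  rw [el_val hr (ok_of_fix ht), raw, if_pos h]

theorem el_short {r : ℕ} (hr : r < 72) (h : rh r ≠ r) (t : K) :
    ((el hq hK r t : Gd hq hK) : GL (TT).I K) = E hq hK r t := by
  rw [el_val hr (ok_short h t), raw, if_neg h]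

theorem el_add {r : ℕ} (hr : r < 72) {s t : K} (hs : Ok hq hK r s) (ht : Ok hq hK r t) :
    el hq hK r (s + t) = el hq hK r s * el hq hK r t := by
  refine Subtype.ext ?_
  by_cases h : rh r = r
  · rw [Subgroup.coe_mul, el_long hr h (hs h), el_long hr h (ht h),
      el_long hr h (by rw [map_add, hs h, ht h]), x_add hr]
  · rw [Subgroup.coe_mul, el_short hr h, el_short hr h, el_short hr h, E_add hq hK hr h]

theorem el_zero {r : ℕ} (hr : r < 72) : el hq hK r 0 = 1 := by
  refine Subtype.ext ?_
  by_cases h : rh r = r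
  · rw [el_long hr h (map_zero _), x_zero hr]; rfl
  · rw [el_short hr h, E_zero hq hK hr]; rfl

theorem rh_spec {r : ℕ} (hr : r < 72) : rh r < 72 ∧ rh (rh r) = r :=
  ⟨(rho_lt r hr).1, (rho_lt r hr).2.1⟩

/-- The element of the other root of an orbit. -/
theorem el_rho {r : ℕ} (hr : r < 72) {t : K} (ht : Ok hq hK (rh r) t) :
    el hq hK (rh r) t = el hq hK r (((GR).ε (rh r) : K) * σ t) := by
  obtain ⟨h1, h2', -, h4, h5, -⟩ := rho_lt r hr
  refine Subtype.ext ?_
  by_cases h : rh r = r
  · have e : (GR).ε (rh r) = 1 := by rw [h]; exact h5 h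
    have hσ := ht (by rw [h, h])
    rw [e, Int.cast_one, one_mul, hσ, h]
  · have h' : rh (rh r) ≠ rh r := fun e => h (by rw [show rh (rh r) = r from h2'] at e; exact e.symm)
    rw [el_short h1 h', el_short hr h]
    show E hq hK (rh r) t = _
    have hc := (pair_comm (hr := h1) (hρ := h') t (((GR).ε (rh r) : K) * σ t)).eq
    rw [show (GR).ρ (rh r) = r from h2'] at hc
    rw [E, E, show (GR).ρ (rh r) = r from h2', hc]
    congr 1
    rw [map_mul, map_intCast, h2 hq hK, ← mul_assoc, ← Int.cast_mul, h4, Int.cast_one, one_mul]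

theorem x_comm_top {r s c : ℕ} {M : ℤ} (h : top r s = some (c, M)) (t u : K) :
    xx s u * xx r t = xx r t * xx s u * xx c ((M : K) * t * u) := by
  obtain ⟨hr, hs, hne, -, hM, hc⟩ := top_spec h
  have hrs : s ≠ r := by
    rintro rfl
    have k : ∀ r < 72, (TT).commT r r = [] := by decide +kernel
    rw [k s hs] at hc
    simp at hc
  rw [comm_xU Data.E6.valid Data.E6.chkComm (hn ▸ hr) (hn ▸ hs) hrs hne t u, hc]
  simp only [List.map_cons, List.map_nil, List.prod_cons, List.prod_nil, mul_one, pow_one]
  congr 2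
  push_cast
  ring

theorem x_comm_com {r s : ℕ} (h : com1 r s = true) (t u : K) : Commute (xx r t) (xx s u) := by
  obtain ⟨hr, hs, hne, hc⟩ := com1_spec h
  exact commute_xU Data.E6.valid Data.E6.chkComm (hn ▸ hr) (hn ▸ hs) hne (by rw [hc]; simp) t u

theorem raw_commute {a b : ℕ} (h : com a b = true) (t u : K) :
    Commute (raw hq hK a t) (raw hq hK b u) := by
  simp only [com, Bool.and_eq_true] at h
  obtain ⟨⟨⟨⟨-, c1⟩, c2⟩, c3⟩, c4⟩ := h
  have hE : ∀ v, Commute (xx a v) (raw hq hK b u) ∧ Commute (xx (rh a) v) (raw hq hK b u) := fun v => by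
    unfold raw
    split
    · exact ⟨x_comm_com c1 _ _, x_comm_com c3 _ _⟩
    · exact ⟨(x_comm_com c1 _ _).mul_right (x_comm_com c2 _ _),
        (x_comm_com c3 _ _).mul_right (x_comm_com c4 _ _)⟩
  unfold raw
  split
  · exact (hE t).1
  · exact (hE t).1.mul_left (hE _).2

theorem el_commute {a b : ℕ} (h : com a b = true) {t u : K} (ht : Ok hq hK a t) (hu : Ok hq hK b u) :
    el hq hK b u * el hq hK a t = el hq hK a t * el hq hK b u := by
  have hab : a < 72 ∧ b < 72 := by
    simp only [com, Bool.and_eq_true, decide_eq_true_eq] at h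
    exact h.1.1.1.1
  refine Subtype.ext ?_
  rw [Subgroup.coe_mul, Subgroup.coe_mul, el_val hab.1 ht, el_val hab.2 hu]
  exact (raw_commute h t u).eq.symm

/-- The correction term of a shape. -/
noncomputable def Shape.val (hq : IsPrimePow q) (hK : Nat.card K = q ^ 2) (t u : K) :
    Shape → Gd hq hK
  | .LL c M => el hq hK c ((M : K) * t * u)
  | .SL c M d M' => el hq hK c ((M : K) * t * u) *
      el hq hK d ((M' : K) * (t * Twist.E6.fq hq hK t) * u)
  | .SS c M => el hq hK c (if rh c = c then (M : K) * t * u + Twist.E6.fq hq hK ((M : K) * t * u)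
      else (M : K) * t * u)

/-- What a shape says. -/
def Shape.Good (a b : ℕ) : Shape → Prop
  | .LL c M => rh a = a ∧ rh b = b ∧ rh c = c ∧ c < 72 ∧ (M = 1 ∨ M = -1)
  | .SL c M d M' => rh a ≠ a ∧ rh b = b ∧ rh c ≠ c ∧ rh d = d ∧ c < 72 ∧ d < 72 ∧ (M = 1 ∨ M = -1) ∧
      (M' = 1 ∨ M' = -1)
  | .SS c M => rh a ≠ a ∧ rh b ≠ b ∧ c < 72 ∧ (M = 1 ∨ M = -1)

/-- The relation of a shape. -/
theorem shape_spec {a b : ℕ} {h : Shape} (e : shape a b = some h) :
    a < 72 ∧ b < 72 ∧ h.Good a b ∧ ∀ t u : K, Ok hq hK a t → Ok hq hK b u →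
      el hq hK b u * el hq hK a t = el hq hK a t * el hq hK b u * h.val hq hK t u := by
  unfold shape at e
  rcases hT : top a b with _ | ⟨c, M⟩
  · rw [hT] at e; simp at e
  rw [hT] at e
  dsimp only at e
  obtain ⟨ha, hb, hne, hc, hM, -⟩ := top_spec hT
  refine ⟨ha, hb, ?_⟩
  by_cases La : rh a = a
  · rw [if_pos (by simpa using La)] at e
    split at e
    · rename_i hbc
      simp only [decide_eq_true_eq] at hbc
      simp only [Option.some.injEq] at e
      subst e
      refine ⟨⟨La, hbc.1, hbc.2, hc, hM⟩, fun t u ht hu => Subtype.ext ?_⟩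
      have hσ : σ ((M : K) * t * u) = (M : K) * t * u := by
        rw [map_mul, map_mul, map_intCast, ht La, hu hbc.1]
      rw [Shape.val, Subgroup.coe_mul, Subgroup.coe_mul, Subgroup.coe_mul, el_long ha La (ht La),
        el_long hb hbc.1 (hu hbc.1), el_long hc hbc.2 hσ, x_comm_top hT]
    · simp at e
  rw [if_neg (by simpa using La)] at e
  obtain ⟨ha', -⟩ := rh_spec ha
  obtain ⟨hb', -⟩ := rh_spec hb
  by_cases Lb : rh b = b
  · rw [if_pos (by simpa using Lb)] at e
    rcases h1 : top (rh a) b with _ | ⟨c', M1⟩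
    · rw [h1] at e; simp at e
    rcases h2 : top (rh a) c with _ | ⟨d, N⟩
    · rw [h1, h2] at e; simp at e
    rw [h1, h2] at e
    dsimp only at e
    split at e
    · rename_i hh
      simp only [Bool.not_eq_true', decide_eq_false_iff_not, decide_eq_true_eq] at hh
      obtain ⟨Lc, Ld, rfl, hs⟩ := hh
      simp only [Option.some.injEq] at e
      subst e
      obtain ⟨-, -, -, hd, hN, -⟩ := top_spec h2
      have hεa : (GR).ε a = 1 ∨ (GR).ε a = -1 := by
        have k : ∀ r < 72, (GR).ε r = 1 ∨ (GR).ε r = -1 := by decide +kernel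
        exact k a ha
      refine ⟨⟨La, Lb, Lc, Ld, hc, hd, hM, ?_⟩, fun t u ht hu => Subtype.ext ?_⟩
      · rcases hN with rfl | rfl <;> rcases hεa with hh | hh <;> rw [hh] <;> rcases hM with rfl | rfl <;> simp
      have hu' := hu Lb
      set p := (M : K) * t * u with hp
      have hσ : σ ((((N * (GR).ε a * M : ℤ)) : K) * (t * σ t) * u) =
          (((N * (GR).ε a * M : ℤ)) : K) * (t * σ t) * u := by
        rw [map_mul, map_mul, map_mul, map_intCast, CfsgLib.KnownA.E6Sub.h2 hq hK t, hu']
        ring
      rw [Shape.val, Subgroup.coe_mul, Subgroup.coe_mul, Subgroup.coe_mul, Subgroup.coe_mul,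
        el_short ha La, el_long hb Lb hu', el_short hc Lc, el_long hd Ld hσ]
      show xx b u * (xx a t * xx (rh a) (((GR).ε a : K) * σ t)) =
        xx a t * xx (rh a) (((GR).ε a : K) * σ t) * xx b u *
          (xx c p * xx (rh c) (((GR).ε c : K) * σ p) *
            xx d ((((N * (GR).ε a * M : ℤ)) : K) * (t * σ t) * u))
      rw [← mul_assoc (xx b u), x_comm_top hT, ← hp, mul_assoc _ (xx c p) (xx (rh a) _), x_comm_top h2,
        ← mul_assoc _ _ (xx d _), ← mul_assoc _ (xx (rh a) _) (xx c p), mul_assoc _ (xx b u) (xx (rh a) _),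
        x_comm_top h1]
      have e1 : (M1 : K) * (((GR).ε a : K) * σ t) * u = ((GR).ε c : K) * σ p := by
        rw [hp, map_mul, map_mul, map_intCast, hu', ← mul_assoc (M1 : K), ← Int.cast_mul, hs,
          Int.cast_mul]
        ring
      have e2 : (N : K) * (((GR).ε a : K) * σ t) * p =
          (((N * (GR).ε a * M : ℤ)) : K) * (t * σ t) * u := by
        rw [hp]; push_cast; ring
      rw [e1, e2]
      simp only [mul_assoc]
      rw [← mul_assoc (xx (rh c) _) (xx c p), ← (pair_comm hc Lc p _).eq, mul_assoc (xx c p)]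
    · simp at e
  · rw [if_neg (by simpa using Lb)] at e
    rcases h1 : top (rh a) (rh b) with _ | ⟨c', M1⟩
    · rw [h1] at e; simp at e
    rw [h1] at e
    dsimp only at e
    split at e
    · rename_i hh
      obtain ⟨rfl, hs, c1, c2, c3, c4⟩ := hh
      simp only [Option.some.injEq] at e
      subst e
      refine ⟨⟨La, Lb, hc, hM⟩, fun t u ht hu => Subtype.ext ?_⟩
      set p := (M : K) * t * u with hp
      have e1 : (M1 : K) * (((GR).ε a : K) * σ t) * (((GR).ε b : K) * σ u) = ((GR).ε c : K) * σ p := by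
        have hs' : (M1 : K) * ((GR).ε a : K) * ((GR).ε b : K) = ((GR).ε c : K) * (M : K) := by
          exact_mod_cast congrArg (Int.cast (R := K)) hs
        rw [hp, map_mul, map_mul, map_intCast]
        linear_combination (σ t * σ u) * hs'
      have hZ : ((el hq hK c (if rh c = c then p + σ p else p) : Gd hq hK) : GL (TT).I K) =
          xx c p * xx (rh c) (((GR).ε c : K) * σ p) := by
        by_cases Lc : rh c = c
        · rw [if_pos Lc, el_long hc Lc (by rw [map_add, CfsgLib.KnownA.E6Sub.h2 hq hK, add_comm]), Lc,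
            (rho_lt c hc).2.2.2.2.1 Lc, Int.cast_one, one_mul, x_add hc]
        · rw [if_neg Lc, el_short hc Lc]; rfl
      rw [Shape.val, ← hp, Subgroup.coe_mul, Subgroup.coe_mul, Subgroup.coe_mul, el_short ha La,
        el_short hb Lb, hZ]
      show xx b u * xx (rh b) (((GR).ε b : K) * σ u) * (xx a t * xx (rh a) (((GR).ε a : K) * σ t)) =
        xx a t * xx (rh a) (((GR).ε a : K) * σ t) * (xx b u * xx (rh b) (((GR).ε b : K) * σ u)) * _
      set a' := xx (rh a) (((GR).ε a : K) * σ t) with ha''
      set b' := xx (rh b) (((GR).ε b : K) * σ u) with hb''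
      have k1 : xx a t * b' = b' * xx a t := (x_comm_com c1 _ _).eq
      have k2 : a' * xx b u = xx b u * a' := (x_comm_com c2 _ _).eq
      have k3 : a' * xx c p = xx c p * a' := (x_comm_com c3 _ _).eq
      have k4 : b' * xx c p = xx c p * b' := (x_comm_com c4 _ _).eq
      have k5 : xx b u * xx a t = xx a t * xx b u * xx c p := by rw [x_comm_top hT, hp]
      have k6 : b' * a' = a' * b' * xx (rh c) (((GR).ε c : K) * σ p) := by
        rw [hb'', ha'', x_comm_top h1, e1]
      calc xx b u * b' * (xx a t * a')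
          = xx b u * (b' * xx a t) * a' := by simp only [mul_assoc]
        _ = (xx b u * xx a t) * (b' * a') := by rw [← k1]; simp only [mul_assoc]
        _ = xx a t * xx b u * (xx c p * a') * b' * xx (rh c) (((GR).ε c : K) * σ p) := by
            rw [k5, k6]; simp only [mul_assoc]
        _ = xx a t * (xx b u * a') * (xx c p * b') * xx (rh c) (((GR).ε c : K) * σ p) := by
            rw [← k3]; simp only [mul_assoc]
        _ = xx a t * a' * (xx b u * b') * (xx c p * xx (rh c) (((GR).ε c : K) * σ p)) := by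
            rw [← k2, ← k4]; simp only [mul_assoc]
    · simp at e

end CfsgLib.KnownB.MinDegTwE6
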